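import Mathlib

/-!
# Dual systems of a ring map (finite projective algebras without choosing a complement)

For a ring map `f : A ⟶ B`, a dual system of size `n` is a family `x : Fin n → B` with `A`-linear
functionals `φ` such that `b = ∑ f (φ k b) * x k`. Multiplication by `b` gives a matrix
`D.mat b` over `A`, multiplicative in `b`; determinants `det (y • 1 + ∑ rᵢ • mat bᵢ)` do not
depend on the dual system, and dual systems base change along pushout squares of rings.
-/

set_option autoImplicit false

universe u v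

open CategoryTheory TensorProduct Matrix

noncomputable section

namespace Groth.AffGpd

/-- A dual system of size `n` for a ring map. -/
structure DualSys {A B : CommRingCat.{u}} (f : A ⟶ B) (n : ℕ) where
  /-- the family of elements -/
  x : Fin n → B
  /-- the coordinate functionals -/
  φ : Fin n → B →+ A
  φ_smul : ∀ k a b, φ k (f.hom a * b) = a * φ k b
  sum_eq : ∀ b, ∑ k, f.hom (φ k b) * x k = b

namespace DualSys

variable {A B : CommRingCat.{u}} {f : A ⟶ B} {n m : ℕ}

/-- The coordinates of `b * D'.x l` in `D`. -/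
def cross (D : DualSys f n) (D' : DualSys f m) (b : B) : Matrix (Fin n) (Fin m) A :=
  Matrix.of fun k l => D.φ k (b * D'.x l)

/-- The matrix of multiplication by `b`. -/
def mat (D : DualSys f n) (b : B) : Matrix (Fin n) (Fin n) A := D.cross D b

theorem cross_apply (D : DualSys f n) (D' : DualSys f m) (b : B) (k : Fin n) (l : Fin m) :
    D.cross D' b k l = D.φ k (b * D'.x l) := rfl

theorem mat_apply (D : DualSys f n) (b : B) (k l : Fin n) : D.mat b k l = D.φ k (b * D.x l) := rfl

theorem cross_mul_cross {q : ℕ} (D : DualSys f n) (D' : DualSys f m) (D'' : DualSys f q) (b c : B) :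
    D.cross D' b * D'.cross D'' c = D.cross D'' (b * c) := by
  ext k r
  simp only [Matrix.mul_apply, cross_apply]
  calc ∑ l, D.φ k (b * D'.x l) * D'.φ l (c * D''.x r)
      = ∑ l, D.φ k (f.hom (D'.φ l (c * D''.x r)) * (b * D'.x l)) := by
        refine Finset.sum_congr rfl fun l _ => ?_
        rw [D.φ_smul, mul_comm]
    _ = D.φ k (b * ∑ l, f.hom (D'.φ l (c * D''.x r)) * D'.x l) := by
        rw [← map_sum, Finset.mul_sum]
        refine congrArg _ (Finset.sum_congr rfl fun l _ => ?_)
        ring
    _ = D.φ k (b * c * D''.x r) := by rw [D'.sum_eq, mul_assoc]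

theorem mat_mul (D : DualSys f n) (b c : B) : D.mat b * D.mat c = D.mat (b * c) :=
  cross_mul_cross D D D b c

theorem mat_add (D : DualSys f n) (b c : B) : D.mat (b + c) = D.mat b + D.mat c := by
  ext k l; simp [mat_apply, add_mul]

theorem mat_zero (D : DualSys f n) : D.mat 0 = 0 := by ext k l; simp [mat_apply]

theorem mat_sub (D : DualSys f n) (b c : B) : D.mat (b - c) = D.mat b - D.mat c := by
  ext k l; simp [mat_apply, sub_mul]

theorem mat_smul (D : DualSys f n) (a : A) (b : B) : D.mat (f.hom a * b) = a • D.mat b := by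
  ext k l; simp [mat_apply, mul_assoc, D.φ_smul]

theorem mat_pow_succ (D : DualSys f n) (b : B) (N : ℕ) : D.mat b ^ (N + 1) = D.mat (b ^ (N + 1)) := by
  induction N with
  | zero => simp
  | succ N ih => rw [pow_succ, ih, mat_mul, ← pow_succ]

/-- Independence of the dual system. -/
theorem det_eq (D D' : DualSys f n) {R : Type v} [CommRing R] (h : A →+* R) {ι : Type*} [Fintype ι]
    (b : ι → B) (r : ι → R) (y : R) :
    (y • (1 : Matrix (Fin n) (Fin n) R) + ∑ i, r i • (D.mat (b i)).map h).det =
      (y • (1 : Matrix (Fin n) (Fin n) R) + ∑ i, r i • (D'.mat (b i)).map h).det := by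
  let P : Matrix (Fin n) (Fin n) R := ∑ i, r i • (D.cross D' (b i)).map h
  let Q : Matrix (Fin n) (Fin n) R := (D'.cross D 1).map h
  have h1 : P * Q = ∑ i, r i • (D.mat (b i)).map h := by
    rw [Finset.sum_mul]
    refine Finset.sum_congr rfl fun i _ => ?_
    rw [Matrix.smul_mul, ← Matrix.map_mul, cross_mul_cross, mul_one]
    rfl
  have h2 : Q * P = ∑ i, r i • (D'.mat (b i)).map h := by
    rw [Finset.mul_sum]
    refine Finset.sum_congr rfl fun i _ => ?_
    rw [Matrix.mul_smul, ← Matrix.map_mul, cross_mul_cross, one_mul]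
    rfl
  rw [← h1, ← h2]
  have key := congrArg (Polynomial.eval y) (Matrix.charpoly_mul_comm (-P) Q)
  rw [Matrix.eval_charpoly, Matrix.eval_charpoly, Matrix.neg_mul, Matrix.mul_neg, sub_neg_eq_add,
    sub_neg_eq_add, show Matrix.scalar (Fin n) y = y • (1 : Matrix (Fin n) (Fin n) R) by
      ext i j; simp [Matrix.scalar_apply, Matrix.one_apply, Matrix.diagonal_apply]] at key
  exact key

theorem mat_map_eq_zero {R : Type v} [CommRing R] (D : DualSys f n) (u : Ideal A) (h : A →+* R)
    (hu : ∀ a ∈ u, h a = 0) {b : B} (hb : b ∈ u.map f.hom) : (D.mat b).map h = 0 := by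
  suffices H : ∀ c, (D.mat (c * b)).map h = 0 by simpa using H 1
  rw [Ideal.map] at hb
  induction hb using Submodule.span_induction with
  | mem x hx =>
    obtain ⟨a, ha, rfl⟩ := hx
    intro c
    rw [mul_comm c, mat_smul]
    ext k l
    simp [hu a ha]
  | zero => intro c; rw [mul_zero, mat_zero]; ext k l; simp
  | add x y _ _ hx hy =>
    intro c
    rw [mul_add, mat_add, Matrix.map_add _ (map_add h), hx, hy, add_zero]
  | smul r x _ hx =>
    intro c
    rw [smul_eq_mul, ← mul_assoc]
    exact hx _

theorem mat_map_congr {R : Type v} [CommRing R] (D : DualSys f n) (u : Ideal A) (h : A →+* R)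
    (hu : ∀ a ∈ u, h a = 0) {b c : B} (hbc : b - c ∈ u.map f.hom) :
    (D.mat b).map h = (D.mat c).map h := by
  have := mat_map_eq_zero D u h hu hbc
  rwa [mat_sub, Matrix.map_sub _ (map_sub h), sub_eq_zero] at this

/-- A dual system from a finite projective algebra. -/
theorem exists_of_projective (hfin : f.hom.Finite)
    (hproj : letI := f.hom.toAlgebra; Module.Projective A B) : ∃ n, Nonempty (DualSys f n) := by
  algebraize [f.hom]
  have : Module.Projective A B := hproj
  obtain ⟨n, π, hπ⟩ := Module.Finite.exists_fin' A B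
  obtain ⟨i, hi⟩ := Module.projective_lifting_property π LinearMap.id hπ
  refine ⟨n, ⟨fun k => π (Pi.single k 1), fun k => ((LinearMap.proj k).comp i).toAddMonoidHom,
    fun k a b => ?_, fun b => ?_⟩⟩
  · have := ((LinearMap.proj k).comp i).map_smul a b
    rw [Algebra.smul_def] at this
    exact this
  · have h1 : i b = ∑ k, i b k • Pi.single k (1 : A) := pi_eq_sum_univ' (i b)
    conv_rhs => rw [show b = π (i b) from (LinearMap.congr_fun hi b).symm, h1, map_sum]
    refine Finset.sum_congr rfl fun k _ => ?_
    rw [map_smul, Algebra.smul_def]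
    rfl

theorem finite (D : DualSys f n) : f.hom.Finite := by
  algebraize [f.hom]
  refine ⟨⟨(Set.finite_range D.x).toFinset, ?_⟩⟩
  rw [Set.Finite.coe_toFinset, eq_top_iff]
  intro b _
  rw [← D.sum_eq b]
  exact Submodule.sum_mem _ fun k _ => by
    rw [← RingHom.algebraMap_toAlgebra f.hom, ← Algebra.smul_def]
    exact Submodule.smul_mem _ _ (Submodule.subset_span ⟨k, rfl⟩)

theorem projective (D : DualSys f n) : letI := f.hom.toAlgebra; Module.Projective A B := by
  letI := f.hom.toAlgebra
  let i : B →ₗ[A] (Fin n → A) :=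
    { toFun := fun b k => D.φ k b
      map_add' := fun b c => funext fun k => map_add _ _ _
      map_smul' := fun a b => funext fun k => by
        simp only [Algebra.smul_def, RingHom.algebraMap_toAlgebra, D.φ_smul]; rfl }
  let π : (Fin n → A) →ₗ[A] B := Fintype.linearCombination A D.x
  refine Module.Projective.of_split i π (LinearMap.ext fun b => ?_)
  simp only [LinearMap.comp_apply, π, Fintype.linearCombination_apply, Algebra.smul_def,
    RingHom.algebraMap_toAlgebra, LinearMap.id_apply]
  exact D.sum_eq b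

/-- A dual system from a basis. -/
def ofBasis (b : letI := f.hom.toAlgebra; Module.Basis (Fin n) A B) : DualSys f n where
  x := letI := f.hom.toAlgebra; fun k => b k
  φ := letI := f.hom.toAlgebra; fun k => (b.coord k).toAddMonoidHom
  φ_smul := by
    let := f.hom.toAlgebra
    intro k a y
    have := (b.coord k).map_smul a y
    rw [Algebra.smul_def] at this
    exact this
  sum_eq := by
    let := f.hom.toAlgebra
    intro y
    conv_rhs => rw [← b.sum_repr y]
    refine Finset.sum_congr rfl fun k _ => ?_
    rw [Algebra.smul_def]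
    rfl

section BaseChange

variable {B₂ P : CommRingCat.{u}} {g : A ⟶ B₂} {p : B ⟶ P} {q : B₂ ⟶ P}

theorem exists_extend (h : IsPushout f g p q) (φ : B →+ A)
    (hφ : ∀ a b, φ (f.hom a * b) = a * φ b) :
    ∃ ψ : P →+ B₂, (∀ y z, ψ (q.hom y * z) = y * ψ z) ∧ ∀ b, ψ (p.hom b) = g.hom (φ b) := by
  algebraize [f.hom, g.hom]
  let il : B ⟶ CommRingCat.of (B ⊗[A] B₂) := CommRingCat.ofHom Algebra.TensorProduct.includeLeftRingHom
  let ir : B₂ ⟶ CommRingCat.of (B ⊗[A] B₂) :=
    CommRingCat.ofHom Algebra.TensorProduct.includeRight.toRingHom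
  have hw : f ≫ il = g ≫ ir := (CommRingCat.isPushout_tensorProduct A B B₂).w
  let d : P ⟶ CommRingCat.of (B ⊗[A] B₂) := h.desc il ir hw
  have h₁ : ∀ x, d.hom (p.hom x) = x ⊗ₜ[A] (1 : B₂) := fun x =>
    congrArg (fun f : B ⟶ CommRingCat.of (B ⊗[A] B₂) => f.hom x) (h.inl_desc il ir hw)
  have h₂ : ∀ x, d.hom (q.hom x) = (1 : B) ⊗ₜ[A] x := fun x =>
    congrArg (fun f : B₂ ⟶ CommRingCat.of (B ⊗[A] B₂) => f.hom x) (h.inr_desc il ir hw)
  let F : B ⊗[A] B₂ →ₗ[A] B₂ := TensorProduct.lift (LinearMap.mk₂ A (fun b y => g.hom (φ b) * y)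
    (fun b b' y => by simp [add_mul]) (fun a b y => by
      simp [Algebra.smul_def, RingHom.algebraMap_toAlgebra, hφ, mul_assoc])
    (fun b y y' => mul_add _ _ _) (fun a b y => by
      simp [Algebra.smul_def, RingHom.algebraMap_toAlgebra, mul_left_comm]))
  have hF : ∀ y t, F (((1 : B) ⊗ₜ[A] y) * t) = y * F t := by
    intro y t
    induction t using TensorProduct.induction_on with
    | zero => simp
    | tmul b z => simp [F, mul_left_comm]
    | add s t hs ht => rw [mul_add, map_add, map_add, hs, ht, mul_add]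
  refine ⟨F.toAddMonoidHom.comp d.hom.toAddMonoidHom, fun y z => ?_, fun b => ?_⟩
  · change F (d.hom (q.hom y * z)) = y * F (d.hom z)
    rw [map_mul, h₂, hF]
  · change F (d.hom (p.hom b)) = _
    rw [h₁]
    simp [F]

theorem induction_of_isPushout (h : IsPushout f g p q) {C : P → Prop} (h0 : C 0)
    (hgen : ∀ b y, C (p.hom b * q.hom y)) (hadd : ∀ s t, C s → C t → C (s + t)) (z : P) : C z := by
  algebraize [f.hom, g.hom]
  have hT := CommRingCat.isPushout_tensorProduct A B B₂
  let e : CommRingCat.of (B ⊗[A] B₂) ⟶ P := hT.desc p q h.w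
  have he : ∀ b y, e.hom (b ⊗ₜ[A] y) = p.hom b * q.hom y := by
    intro b y
    rw [← mul_one b, ← one_mul y, ← Algebra.TensorProduct.tmul_mul_tmul, map_mul, mul_one, one_mul]
    congr 1
    · exact congrArg (fun f : B ⟶ P => f.hom b) (hT.inl_desc p q h.w)
    · exact congrArg (fun f : B₂ ⟶ P => f.hom y) (hT.inr_desc p q h.w)
  have hs : (h.desc (CommRingCat.ofHom Algebra.TensorProduct.includeLeftRingHom)
      (CommRingCat.ofHom Algebra.TensorProduct.includeRight.toRingHom) hT.w) ≫ e = 𝟙 P := by
    apply h.hom_ext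
    · rw [IsPushout.inl_desc_assoc, Category.comp_id]; exact hT.inl_desc p q h.w
    · rw [IsPushout.inr_desc_assoc, Category.comp_id]; exact hT.inr_desc p q h.w
  have hz := congrArg (fun f : P ⟶ P => f.hom z) hs
  simp only [CommRingCat.hom_comp, RingHom.comp_apply, CommRingCat.hom_id, RingHom.id_apply] at hz
  rw [← hz]
  generalize (CommRingCat.Hom.hom (h.desc _ _ _)) z = t
  induction t using TensorProduct.induction_on with
  | zero => rw [map_zero]; exact h0
  | tmul b y => rw [he]; exact hgen b y
  | add s t hs ht => rw [map_add]; exact hadd _ _ hs ht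

/-- Base change of a dual system along a pushout square of rings. -/
def baseChange (D : DualSys f n) (h : IsPushout f g p q) : DualSys q n where
  x k := p.hom (D.x k)
  φ k := (exists_extend h (D.φ k) (D.φ_smul k)).choose
  φ_smul k := (exists_extend h (D.φ k) (D.φ_smul k)).choose_spec.1
  sum_eq z := by
    induction z using induction_of_isPushout h with
    | h0 => simp
    | hgen b y =>
      conv_rhs => rw [← D.sum_eq b, map_sum, Finset.sum_mul]
      refine Finset.sum_congr rfl fun k _ => ?_
      have hw : p.hom (f.hom (D.φ k b)) = q.hom (g.hom (D.φ k b)) :=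
        congrArg (fun f : A ⟶ P => f.hom (D.φ k b)) h.w
      rw [mul_comm (p.hom b), (exists_extend h (D.φ k) (D.φ_smul k)).choose_spec.1,
        (exists_extend h (D.φ k) (D.φ_smul k)).choose_spec.2, map_mul, map_mul, ← hw]
      ring
    | hadd s t hs ht =>
      conv_rhs => rw [← hs, ← ht, ← Finset.sum_add_distrib]
      refine Finset.sum_congr rfl fun k _ => ?_
      rw [map_add, map_add, add_mul]

theorem baseChange_φ (D : DualSys f n) (h : IsPushout f g p q) (k : Fin n) (b : B) :
    (D.baseChange h).φ k (p.hom b) = g.hom (D.φ k b) :=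
  (exists_extend h (D.φ k) (D.φ_smul k)).choose_spec.2 b

theorem mat_baseChange (D : DualSys f n) (h : IsPushout f g p q) (b : B) :
    (D.baseChange h).mat (p.hom b) = (D.mat b).map g.hom := by
  ext k l
  rw [mat_apply, Matrix.map_apply, mat_apply]
  change (D.baseChange h).φ k (p.hom b * p.hom (D.x l)) = _
  rw [← map_mul, baseChange_φ]

theorem eq_zero_of_sum_eq_zero (h : IsPushout f g p q)
    {I : Type*} (e : I → B) (c : I → B →+ A) (hc : ∀ i a b, c i (f.hom a * b) = a * c i b)
    (hce : ∀ i j, i ≠ j → c i (e j) = 0) (hce' : ∀ i, c i (e i) = 1)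
    (β : I →₀ B₂) (hβ : β.sum (fun i y => q.hom y * p.hom (e i)) = 0) : β = 0 := by
  ext i
  obtain ⟨ψ, hψ, hψp⟩ := exists_extend h (c i) (hc i)
  have := congrArg ψ hβ
  rw [map_zero, map_finsuppSum] at this
  refine Eq.trans ?_ this
  rw [Finsupp.sum, Finset.sum_eq_single i]
  · rw [hψ, hψp, hce', map_one, mul_one]
  · intro j _ hj
    rw [hψ, hψp, hce i j (Ne.symm hj), map_zero, mul_zero]
  · intro hi
    rw [Finsupp.notMem_support_iff.1 hi, map_zero, zero_mul, map_zero]

end BaseChange

end DualSys

end Groth.AffGpd
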