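import Mathlib
import Groth.Agent.GitQuot.AffGpd.DualSys

/-!
# Affine groupoids with finite projective source map: invariants

`σ, τ : A ⟶ B` are source and target on functions, `ε` the identity section, `γ` composition and
`p₁, p₂` the projections. The two squares say that `P` is the ring of composable pairs in two ways.
The characteristic polynomial of multiplication by `τ a` along `σ` has invariant coefficients; the
norm separates orbits.
-/

set_option autoImplicit false

universe u v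

open CategoryTheory Matrix Polynomial

noncomputable section

namespace Groth

/-- Rings of an affine groupoid whose source map has a dual system. -/
structure AffGpd where
  /-- functions on objects -/
  A : CommRingCat.{u}
  /-- functions on arrows -/
  B : CommRingCat.{u}
  /-- functions on composable pairs -/
  P : CommRingCat.{u}
  /-- source -/
  σ : A ⟶ B
  /-- target -/
  τ : A ⟶ B
  /-- identity -/
  ε : B ⟶ A
  /-- first projection -/
  p₁ : B ⟶ P
  /-- second projection -/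
  p₂ : B ⟶ P
  /-- composition -/
  γ : B ⟶ P
  σ_ε : σ ≫ ε = 𝟙 A
  τ_ε : τ ≫ ε = 𝟙 A
  γ_τ : τ ≫ γ = τ ≫ p₁
  γ_σ : σ ≫ γ = σ ≫ p₂
  sq : IsPushout σ τ p₁ p₂
  sqS : IsPushout σ σ γ p₂
  /-- size of the dual system -/
  n : ℕ
  /-- the dual system of the source map -/
  D : AffGpd.DualSys σ n

namespace AffGpd

variable (G : AffGpd.{u})

/-- The invariant subring. -/
def inv : Subring G.A := RingHom.eqLocus G.σ.hom G.τ.hom

theorem mem_inv {a : G.A} : a ∈ G.inv ↔ G.σ.hom a = G.τ.hom a := Iff.rfl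

theorem ε_σ (a : G.A) : G.ε.hom (G.σ.hom a) = a :=
  congrArg (fun f : G.A ⟶ G.A => f.hom a) G.σ_ε

theorem ε_τ (a : G.A) : G.ε.hom (G.τ.hom a) = a :=
  congrArg (fun f : G.A ⟶ G.A => f.hom a) G.τ_ε

theorem γ_τ_apply (a : G.A) : G.γ.hom (G.τ.hom a) = G.p₁.hom (G.τ.hom a) :=
  congrArg (fun f : G.A ⟶ G.P => f.hom a) G.γ_τ

theorem γ_σ_apply (a : G.A) : G.γ.hom (G.σ.hom a) = G.p₂.hom (G.σ.hom a) :=
  congrArg (fun f : G.A ⟶ G.P => f.hom a) G.γ_σ

/-- multiplication by `τ a` on the arrows, along the source -/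
def E (a : G.A) : Matrix (Fin G.n) (Fin G.n) G.A := G.D.mat (G.τ.hom a)

/-- **Invariance**: both base changes of `det (y + ∑ rᵢ E aᵢ)` agree. -/
theorem det_invariant {R R' : Type v} [CommRing R] [CommRing R'] (h : G.A →+* R) (h' : G.B →+* R')
    (Fσ Fτ : R →+* R') (hσ : ∀ a, Fσ (h a) = h' (G.σ.hom a)) (hτ : ∀ a, Fτ (h a) = h' (G.τ.hom a))
    {ι : Type*} [Fintype ι] (a : ι → G.A) (r : ι → R) (y : R)
    (hr : ∀ i, Fσ (r i) = Fτ (r i)) (hy : Fσ y = Fτ y) :
    Fσ (y • (1 : Matrix (Fin G.n) (Fin G.n) R) + ∑ i, r i • (G.E (a i)).map h).det =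
      Fτ (y • (1 : Matrix (Fin G.n) (Fin G.n) R) + ∑ i, r i • (G.E (a i)).map h).det := by
  let D₁ := G.D.baseChange G.sqS
  let D₂ := G.D.baseChange G.sq
  have h1 : ∀ i, ((G.E (a i)).map h).map Fσ = (D₁.mat (G.p₁.hom (G.τ.hom (a i)))).map h' := by
    intro i
    rw [← G.γ_τ_apply, DualSys.mat_baseChange, Matrix.map_map, Matrix.map_map]
    ext k l
    exact hσ _
  have h2 : ∀ i, ((G.E (a i)).map h).map Fτ = (D₂.mat (G.p₁.hom (G.τ.hom (a i)))).map h' := by
    intro i
    rw [DualSys.mat_baseChange, Matrix.map_map, Matrix.map_map]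
    ext k l
    exact hτ _
  rw [RingHom.map_det, RingHom.map_det]
  have e : ∀ F : R →+* R', F.mapMatrix (y • (1 : Matrix (Fin G.n) (Fin G.n) R) + ∑ i, r i • (G.E (a i)).map h) =
      F y • 1 + ∑ i, F (r i) • ((G.E (a i)).map h).map F := by
    intro F
    rw [map_add, map_sum]
    congr 1
    · ext k l; simp [Matrix.one_apply]; split_ifs <;> simp
    · refine Finset.sum_congr rfl fun i _ => ?_
      ext k l; simp
  rw [e, e]
  simp only [h1, h2, hr, hy]
  exact DualSys.det_eq D₁ D₂ h' _ _ _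

/-- The vector witnessing eigenvalues: `v ᵥ* E a = a • v`. -/
def vec : Fin G.n → G.A := fun k => G.ε.hom (G.D.x k)

theorem vec_vecMul (a : G.A) : G.vec ᵥ* G.E a = a • G.vec := by
  funext l
  have h := congrArg G.ε.hom (G.D.sum_eq (G.τ.hom a * G.D.x l))
  rw [map_sum, map_mul, ε_τ] at h
  simp only [Matrix.vecMul, dotProduct, vec, E, DualSys.mat_apply, Pi.smul_apply, smul_eq_mul]
  rw [← h]
  refine Finset.sum_congr rfl fun k _ => ?_
  rw [map_mul G.ε.hom, ε_σ, mul_comm]

theorem vec_dot : ∑ k, G.D.φ k 1 * G.vec k = 1 := by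
  have h := congrArg G.ε.hom (G.D.sum_eq 1)
  rw [map_sum, map_one] at h
  simpa [vec, ε_σ] using h

/-- A matrix with `vec` as eigenvector: the eigenvalue divides the determinant. -/
theorem dvd_det (M : Matrix (Fin G.n) (Fin G.n) G.A) (c : G.A) (hM : G.vec ᵥ* M = c • G.vec) :
    c ∣ M.det := by
  have h := congrArg (fun w : Fin G.n → G.A => w ᵥ* M.adjugate) hM
  simp only [Matrix.vecMul_vecMul, Matrix.mul_adjugate, Matrix.vecMul_smul, Matrix.smul_vecMul,
    Matrix.vecMul_one] at h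
  refine ⟨∑ k, G.D.φ k 1 * (G.vec ᵥ* M.adjugate) k, ?_⟩
  calc M.det = M.det * ∑ k, G.D.φ k 1 * G.vec k := by rw [vec_dot, mul_one]
    _ = ∑ k, G.D.φ k 1 * (M.det • G.vec) k := by
        rw [Finset.mul_sum]
        exact Finset.sum_congr rfl fun k _ => by simp only [Pi.smul_apply, smul_eq_mul]; ring
    _ = c * ∑ k, G.D.φ k 1 * (G.vec ᵥ* M.adjugate) k := by
        rw [h, Finset.mul_sum]
        exact Finset.sum_congr rfl fun k _ => by simp only [Pi.smul_apply, smul_eq_mul]; ring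

/-- The characteristic polynomial of `τ a` along `σ`. -/
def charP (a : G.A) : G.A[X] := (G.E a).charpoly

theorem charP_eq (a : G.A) :
    G.charP a = ((X : G.A[X]) • (1 : Matrix (Fin G.n) (Fin G.n) G.A[X]) +
      ∑ _i : Unit, (-1 : G.A[X]) • (G.E a).map C).det := by
  rw [charP, Matrix.charpoly]
  congr 1
  ext k l : 2
  by_cases hkl : k = l
  · subst hkl; simp [Matrix.charmatrix_apply_eq, sub_eq_add_neg]
  · simp [Matrix.charmatrix_apply_ne _ _ _ hkl, Matrix.one_apply_ne hkl]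

theorem charP_coeff_mem_inv (a : G.A) (j : ℕ) : (G.charP a).coeff j ∈ G.inv := by
  have h := G.det_invariant (R := G.A[X]) (R' := G.B[X]) C C (Polynomial.mapRingHom G.σ.hom)
    (Polynomial.mapRingHom G.τ.hom) (fun _ => by simp) (fun _ => by simp) (fun _ : Unit => a)
    (fun _ => -1) X (fun _ => by simp) (by simp)
  rw [← charP_eq] at h
  have := congrArg (fun p : G.B[X] => p.coeff j) h
  simpa [mem_inv] using this

theorem monic_charP (a : G.A) : (G.charP a).Monic := Matrix.charpoly_monic _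

theorem eval_charP (a : G.A) : (G.charP a).eval a = 0 := by
  rw [charP, Matrix.eval_charpoly]
  have h : G.vec ᵥ* (Matrix.scalar (Fin G.n) a - G.E a) = (0 : G.A) • G.vec := by
    rw [Matrix.vecMul_sub, vec_vecMul, zero_smul]
    funext l
    simp [Matrix.scalar_apply, Matrix.vecMul_diagonal, mul_comm]
  simpa using G.dvd_det _ 0 h

theorem isIntegral : Algebra.IsIntegral G.inv G.A := by
  refine ⟨fun a => ⟨(G.charP a).toSubring G.inv ?_, ?_, ?_⟩⟩
  · intro c hc
    obtain ⟨j, -, rfl⟩ := Polynomial.mem_coeffs_iff.1 hc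
    exact G.charP_coeff_mem_inv a j
  · exact (Polynomial.monic_toSubring _ _ _).2 (G.monic_charP a)
  · rw [← Polynomial.eval_map]
    refine Eq.trans (congrArg (Polynomial.eval a) ?_) (G.eval_charP a)
    exact Polynomial.map_toSubring (G.charP a) G.inv _

/-- The norm of `τ a` along `σ`, extended by the identity on the complement of the dual system. -/
def N (a : G.A) : G.A := (1 + (G.E a - G.E 1)).det

theorem N_mem_inv (a : G.A) : G.N a ∈ G.inv := by
  have h := G.det_invariant (R := G.A) (R' := G.B) (RingHom.id _) (RingHom.id _) G.σ.hom G.τ.hom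
    (fun _ => rfl) (fun _ => rfl) ![a, 1] ![1, -1] 1 (fun i => by fin_cases i <;> simp) (by simp)
  simpa [mem_inv, N, Fin.sum_univ_two, sub_eq_add_neg, add_assoc] using h

theorem self_dvd_N (a : G.A) : a ∣ G.N a := by
  refine G.dvd_det _ _ ?_
  rw [Matrix.vecMul_add, Matrix.vecMul_sub, vec_vecMul, vec_vecMul, Matrix.vecMul_one, one_smul]
  module

/-- The norm on arrows. -/
def Nhat (b : G.B) : G.A := (G.D.mat b + (1 - G.D.mat 1)).det

theorem N_eq_Nhat (a : G.A) : G.N a = G.Nhat (G.τ.hom a) := by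
  rw [N, Nhat, E, E, map_one]
  congr 1
  abel

theorem Nhat_mul (b c : G.B) : G.Nhat b * G.Nhat c = G.Nhat (b * c) := by
  rw [Nhat, Nhat, Nhat, ← Matrix.det_mul]
  congr 1
  simp only [add_mul, mul_add, sub_mul, mul_sub, one_mul, mul_one, DualSys.mat_mul]
  abel

theorem Nhat_one : G.Nhat 1 = 1 := by simp [Nhat]

theorem Nhat_σ_mul (h : G.A) :
    G.Nhat (G.σ.hom h) * (G.D.mat 1 + h • (1 - G.D.mat 1)).det = h ^ G.n := by
  have hm : G.D.mat (G.σ.hom h) = h • G.D.mat 1 := by
    rw [← DualSys.mat_smul, mul_one]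
  rw [Nhat, hm, ← Matrix.det_mul]
  have hee : G.D.mat 1 * G.D.mat 1 = G.D.mat 1 := by rw [DualSys.mat_mul, mul_one]
  have : (h • G.D.mat 1 + (1 - G.D.mat 1)) * (G.D.mat 1 + h • (1 - G.D.mat 1)) =
      h • (1 : Matrix (Fin G.n) (Fin G.n) G.A) := by
    simp only [add_mul, mul_add, sub_mul, mul_sub, Matrix.smul_mul, Matrix.mul_smul, hee, one_mul, mul_one]
    module
  rw [this, Matrix.det_smul, Matrix.det_one, mul_one, Fintype.card_fin]

section Fibre

variable (u : Ideal G.A) [hu : u.IsPrime]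

theorem exists_pow_mul_mem {b : G.B}
    (h : ∀ r : Ideal G.B, r.IsPrime → r.comap G.σ.hom = u → b ∈ r) :
    ∃ (N : ℕ) (k : G.A), k ∉ u ∧ G.σ.hom k * b ^ N ∈ u.map G.σ.hom := by
  by_contra hne
  push Not at hne
  let S : Submonoid G.B := u.primeCompl.map G.σ.hom.toMonoidHom ⊔ Submonoid.powers b
  have hd : Disjoint ((u.map G.σ.hom : Ideal G.B) : Set G.B) (S : Set G.B) := by
    rw [Set.disjoint_left]
    intro x hx hxS
    obtain ⟨_, ⟨k, hk, rfl⟩, _, ⟨N, rfl⟩, rfl⟩ := Submonoid.mem_sup.1 hxS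
    exact hne N k hk hx
  obtain ⟨r, hr, hle, hdis⟩ := Ideal.exists_le_prime_disjoint _ S hd
  have hcu : r.comap G.σ.hom = u := by
    refine le_antisymm (fun k hk => ?_) (Ideal.map_le_iff_le_comap.1 hle)
    by_contra hku
    exact Set.disjoint_left.1 hdis hk (Submonoid.mem_sup_left ⟨k, hku, rfl⟩)
  exact Set.disjoint_left.1 hdis (h r hr hcu) (Submonoid.mem_sup_right ⟨1, pow_one b⟩)

theorem exists_mem_span_sup {b : G.B}
    (h : ∀ r : Ideal G.B, r.IsPrime → r.comap G.σ.hom = u → b ∉ r) :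
    ∃ (k : G.A), k ∉ u ∧ ∃ g, G.σ.hom k - b * g ∈ u.map G.σ.hom := by
  by_contra hne
  push Not at hne
  let S : Submonoid G.B := u.primeCompl.map G.σ.hom.toMonoidHom
  have hd : Disjoint ((Ideal.span {b} ⊔ u.map G.σ.hom : Ideal G.B) : Set G.B) (S : Set G.B) := by
    rw [Set.disjoint_left]
    rintro x hx ⟨k, hk, rfl⟩
    obtain ⟨y, hy, z, hz, hyz⟩ := Submodule.mem_sup.1 hx
    obtain ⟨g, rfl⟩ := Ideal.mem_span_singleton'.1 hy
    refine hne k hk g ?_
    change G.σ.hom.toMonoidHom k - b * g ∈ _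
    rwa [← hyz, mul_comm g, add_sub_cancel_left]
  obtain ⟨r, hr, hle, hdis⟩ := Ideal.exists_le_prime_disjoint _ S hd
  have hcu : r.comap G.σ.hom = u := by
    refine le_antisymm (fun k hk => ?_) (Ideal.map_le_iff_le_comap.1 (le_sup_right.trans hle))
    by_contra hku
    exact Set.disjoint_left.1 hdis hk ⟨k, hku, rfl⟩
  exact h r hr hcu (hle (Ideal.mem_sup_left (Ideal.mem_span_singleton_self b)))

/-- If every arrow out of `u` ends in the zero set of `a`, the lower coefficients vanish at `u`. -/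
theorem charP_coeff_mem {a : G.A}
    (h : ∀ r : Ideal G.B, r.IsPrime → r.comap G.σ.hom = u → G.τ.hom a ∈ r) {j : ℕ} (hj : j < G.n) :
    (G.charP a).coeff j ∈ u := by
  obtain ⟨N, k, hk, hmem⟩ := G.exists_pow_mul_mem u h
  let κ := FractionRing (G.A ⧸ u)
  let π : G.A →+* κ := (algebraMap (G.A ⧸ u) κ).comp (Ideal.Quotient.mk u)
  have hπ : ∀ x, π x = 0 ↔ x ∈ u := fun x => by
    rw [← Ideal.Quotient.eq_zero_iff_mem]
    exact map_eq_zero_iff _ (IsFractionRing.injective (G.A ⧸ u) κ)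
  have hmem' : G.σ.hom k * G.τ.hom a ^ (N + 1) ∈ u.map G.σ.hom := by
    rw [pow_succ, ← mul_assoc]; exact Ideal.mul_mem_right _ _ hmem
  have hz := DualSys.mat_map_eq_zero G.D u π (fun x hx => (hπ x).2 hx) hmem'
  rw [DualSys.mat_smul, ← DualSys.mat_pow_succ] at hz
  have hnil : IsNilpotent ((G.E a).map π) := by
    refine ⟨N + 1, ?_⟩
    have hk0 : π k ≠ 0 := fun e => hk ((hπ k).1 e)
    have : π k • ((G.E a).map π) ^ (N + 1) = 0 := by
      rw [← hz]
      have e1 : ((G.E a).map π) ^ (N + 1) = ((G.E a) ^ (N + 1)).map π :=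
        (map_pow π.mapMatrix (G.E a) (N + 1)).symm
      rw [e1]
      ext i l
      simp [E]
    exact (smul_eq_zero.1 this).resolve_left hk0
  have hcp : ((G.E a).map π).charpoly = X ^ G.n := by
    have := Matrix.isNilpotent_charpoly_sub_pow_of_isNilpotent hnil
    rw [Fintype.card_fin] at this
    exact sub_eq_zero.1 this.eq_zero
  rw [Matrix.charpoly_map] at hcp
  have := congrArg (fun p : κ[X] => p.coeff j) hcp
  simp only [Polynomial.coeff_map, Polynomial.coeff_X_pow, if_neg hj.ne] at this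
  exact (hπ _).1 this

/-- If no arrow out of `u` ends in the zero set of `a`, the norm is non-zero at `u`. -/
theorem N_notMem {a : G.A}
    (h : ∀ r : Ideal G.B, r.IsPrime → r.comap G.σ.hom = u → G.τ.hom a ∉ r) : G.N a ∉ u := by
  obtain ⟨k, hk, g, hg⟩ := G.exists_mem_span_sup u h
  intro hN
  refine hk (hu.mem_of_pow_mem G.n ?_)
  let π := Ideal.Quotient.mk u
  have hπ : ∀ x ∈ u, π x = 0 := fun x hx => Ideal.Quotient.eq_zero_iff_mem.2 hx
  have he : π (G.Nhat (G.σ.hom k)) = π (G.Nhat (G.τ.hom a * g)) := by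
    rw [Nhat, Nhat, RingHom.map_det, RingHom.map_det, map_add, map_add]
    simp only [RingHom.mapMatrix_apply]
    rw [DualSys.mat_map_congr G.D u π hπ hg]
  rw [← Ideal.Quotient.eq_zero_iff_mem, ← G.Nhat_σ_mul, map_mul, he, ← G.Nhat_mul, map_mul,
    ← N_eq_Nhat, hπ _ hN, zero_mul, zero_mul]

end Fibre

/-- Primes of arrows with given source are finite in number. -/
theorem finite_fibre (u : Ideal G.A) :
    {r : Ideal G.B | r.IsPrime ∧ r.comap G.σ.hom = u}.Finite := by
  by_cases hu : u.IsPrime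
  · letI := G.σ.hom.toAlgebra
    have : Module.Finite G.A G.B := G.D.finite
    have h := Algebra.QuasiFinite.finite_comap_preimage_singleton (R := G.A) (S := G.B) ⟨u, hu⟩
    refine (h.image PrimeSpectrum.asIdeal).subset ?_
    rintro r ⟨hr, hru⟩
    exact ⟨⟨r, hr⟩, PrimeSpectrum.ext hru, rfl⟩
  · refine Set.Finite.subset (Set.finite_empty) ?_
    rintro r ⟨hr, rfl⟩
    exact hu (hr.comap G.σ.hom)

theorem comap_inv_eq (r : Ideal G.B) :
    (r.comap G.τ.hom).comap G.inv.subtype = (r.comap G.σ.hom).comap G.inv.subtype := by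
  ext c
  simp only [Ideal.mem_comap, Subring.coe_subtype]
  rw [show G.σ.hom (c : G.A) = G.τ.hom c from c.2]

/-- If norms do not separate `u₀` from `u₁`, an arrow out of `u₁` ends at a specialisation of `u₀`. -/
theorem exists_arrow_of_N {u₀ u₁ : Ideal G.A} [u₁.IsPrime]
    (hN : ∀ a, G.N a ∈ u₀ → G.N a ∈ u₁) :
    ∃ r : Ideal G.B, r.IsPrime ∧ r.comap G.σ.hom = u₁ ∧ u₀ ≤ r.comap G.τ.hom := by
  classical
  by_contra hne
  push Not at hne
  let s := (G.finite_fibre u₁).toFinset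
  have hs : ∀ r : Ideal G.B, r ∈ s ↔ r.IsPrime ∧ r.comap G.σ.hom = u₁ := fun r =>
    Set.Finite.mem_toFinset _
  have hnot : ¬ ((u₀ : Set G.A) ⊆ ⋃ r ∈ (s : Set (Ideal G.B)), (r.comap G.τ.hom : Set G.A)) := by
    intro hsub
    rw [Ideal.subset_union_prime (f := fun r : Ideal G.B => r.comap G.τ.hom) ⊥ ⊥
      (fun r hr _ _ => (((hs r).1 hr).1).comap _)] at hsub
    obtain ⟨r, hr, hle⟩ := hsub
    obtain ⟨hrp, hru⟩ := (hs r).1 hr
    exact hne r hrp hru hle
  obtain ⟨a, ha, han⟩ := Set.not_subset.1 hnot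
  refine G.N_notMem u₁ (fun r hr hru hmem => han (by
    simp only [Set.mem_iUnion]
    exact ⟨r, Finset.mem_coe.2 ((hs r).2 ⟨hr, hru⟩), hmem⟩)) (hN a ?_)
  exact Ideal.mem_of_dvd _ (G.self_dvd_N a) ha

/-- **Fibres of `Spec A → Spec (inv)` are orbits.** -/
theorem exists_arrow_iff {u₀ u₁ : Ideal G.A} [u₀.IsPrime] [u₁.IsPrime] :
    (∃ r : Ideal G.B, r.IsPrime ∧ r.comap G.τ.hom = u₀ ∧ r.comap G.σ.hom = u₁) ↔
      u₀.comap G.inv.subtype = u₁.comap G.inv.subtype := by
  constructor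
  · rintro ⟨r, -, rfl, rfl⟩
    exact G.comap_inv_eq r
  · intro hc
    obtain ⟨r, hr, hru, hle⟩ := G.exists_arrow_of_N (u₀ := u₀) (u₁ := u₁) fun a h =>
      (SetLike.ext_iff.1 hc ⟨_, G.N_mem_inv a⟩).1 h
    refine ⟨r, hr, le_antisymm ?_ hle, hru⟩
    by_contra hlt
    obtain ⟨x, hx, hx0⟩ := SetLike.not_le_iff_exists.1 hlt
    refine (Ideal.comap_lt_comap_of_integral_mem_sdiff (R := G.inv) (I := u₀) (J := r.comap G.τ.hom)
      hle ⟨hx, hx0⟩ (G.isIntegral.isIntegral x)).ne ?_
    exact hc.trans ((congrArg (Ideal.comap G.inv.subtype) hru.symm).trans (G.comap_inv_eq r).symm)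

theorem comap_surjective :
    Function.Surjective (PrimeSpectrum.comap G.inv.subtype) := by
  have := G.isIntegral
  exact Algebra.IsIntegral.comap_surjective G.inv G.A

/-- The image of a basic open is open, cut out by the lower coefficients. -/
theorem exists_mem_iff_exists_coeff (a : G.A) (q : PrimeSpectrum G.inv) :
    q ∈ PrimeSpectrum.comap G.inv.subtype '' (PrimeSpectrum.basicOpen a : Set (PrimeSpectrum G.A)) ↔
      ∃ j < G.n, (⟨(G.charP a).coeff j, G.charP_coeff_mem_inv a j⟩ : G.inv) ∉ q.asIdeal := by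
  constructor
  · rintro ⟨u, hua, rfl⟩
    by_contra hne
    push Not at hne
    refine hua (u.2.mem_of_pow_mem G.n ?_)
    have h0 := G.eval_charP a
    have : Nontrivial G.A := u.nontrivial
    have hdeg : (G.charP a).natDegree = G.n :=
      (Matrix.charpoly_natDegree_eq_dim _).trans (Fintype.card_fin _)
    rw [Polynomial.eval_eq_sum_range, hdeg] at h0
    rw [Finset.sum_range_succ] at h0
    have hlead : (G.charP a).coeff G.n = 1 := by
      have := G.monic_charP a
      rwa [Polynomial.Monic, Polynomial.leadingCoeff, charP, Matrix.charpoly_natDegree_eq_dim,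
        Fintype.card_fin] at this
    rw [hlead, one_mul] at h0
    rw [eq_neg_of_add_eq_zero_right h0]
    exact u.asIdeal.neg_mem (Ideal.sum_mem _ fun j hj => Ideal.mul_mem_right _ _
      (hne j (Finset.mem_range.1 hj)))
  · rintro ⟨j, hj, hjq⟩
    obtain ⟨u, rfl⟩ := G.comap_surjective q
    by_contra hne
    refine hjq ?_
    have hmem := G.charP_coeff_mem u.asIdeal (a := a) (fun r hr hru => ?_) hj
    · exact hmem
    by_contra hra
    refine hne ⟨⟨r.comap G.τ.hom, hr.comap _⟩, hra, PrimeSpectrum.ext ?_⟩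
    change (r.comap G.τ.hom).comap G.inv.subtype = u.asIdeal.comap G.inv.subtype
    rw [← hru]
    ext c
    simp only [Ideal.mem_comap, Subring.coe_subtype]
    rw [show G.σ.hom (c : G.A) = G.τ.hom c from c.2]

theorem isOpenMap_comap : IsOpenMap (PrimeSpectrum.comap G.inv.subtype) := by
  rw [PrimeSpectrum.isTopologicalBasis_basic_opens.isOpenMap_iff]
  rintro _ ⟨a, rfl⟩
  rw [isOpen_iff_forall_mem_open]
  intro q hq
  obtain ⟨j, hj, hjq⟩ := (G.exists_mem_iff_exists_coeff a q).1 hq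
  exact ⟨_, fun q' hq' => (G.exists_mem_iff_exists_coeff a q').2 ⟨j, hj, hq'⟩,
    PrimeSpectrum.isOpen_basicOpen, hjq⟩

end AffGpd

end Groth
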