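import Mathlib
import Groth.Agent.GitQuot.AffGpd.Basic

/-!
# Base change of an affine groupoid along its invariants, and field valued points
-/

set_option autoImplicit false

universe u v

open CategoryTheory CategoryTheory.Limits Matrix

noncomputable section

namespace Groth.AffGpd

section Pushouts

variable {C C' X Y : CommRingCat.{u}} {ιX : C ⟶ X} {ιY : C ⟶ Y} (j : C ⟶ C')

/-- Functoriality of `- ⊗_C C'`. -/
def mapPO (f : X ⟶ Y) (w : ιX ≫ f = ιY) : pushout ιX j ⟶ pushout ιY j :=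
  pushout.desc (f ≫ pushout.inl _ _) (pushout.inr _ _) (by rw [← Category.assoc, w, pushout.condition])

theorem inl_mapPO (f : X ⟶ Y) (w : ιX ≫ f = ιY) :
    pushout.inl ιX j ≫ mapPO j f w = f ≫ pushout.inl ιY j := pushout.inl_desc _ _ _

theorem inr_mapPO (f : X ⟶ Y) (w : ιX ≫ f = ιY) :
    pushout.inr ιX j ≫ mapPO j f w = pushout.inr ιY j := pushout.inr_desc _ _ _

theorem isPushout_mapPO (f : X ⟶ Y) (w : ιX ≫ f = ιY) :
    IsPushout f (pushout.inl ιX j) (pushout.inl ιY j) (mapPO j f w) := by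
  subst w
  refine IsPushout.of_left ?_ (inl_mapPO j f rfl).symm (IsPushout.of_hasPushout ιX j)
  have := IsPushout.of_hasPushout (ιX ≫ f) j
  rwa [← inr_mapPO j f rfl] at this

theorem mapPO_comp {Z : CommRingCat.{u}} {ιZ : C ⟶ Z} (f : X ⟶ Y) (w : ιX ≫ f = ιY) (g : Y ⟶ Z)
    (w' : ιY ≫ g = ιZ) :
    mapPO j f w ≫ mapPO j g w' = mapPO j (f ≫ g) (by rw [← Category.assoc, w, w']) := by
  apply pushout.hom_ext
  · rw [← Category.assoc, inl_mapPO, Category.assoc, inl_mapPO, inl_mapPO, Category.assoc]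
  · rw [← Category.assoc, inr_mapPO, inr_mapPO, inr_mapPO]

theorem mapPO_congr {f g : X ⟶ Y} (h : f = g) (w : ιX ≫ f = ιY) :
    mapPO j f w = mapPO j g (h ▸ w) := by subst h; rfl

theorem mapPO_id : mapPO j (𝟙 X) (Category.comp_id ιX) = 𝟙 _ := by
  apply pushout.hom_ext
  · rw [inl_mapPO, Category.id_comp, Category.comp_id]
  · rw [inr_mapPO, Category.comp_id]

/-- Base change preserves pushout squares. -/
theorem isPushout_cube {Z W : CommRingCat.{u}} {ιZ : C ⟶ Z} {ιW : C ⟶ W}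
    {f : X ⟶ Y} {g : X ⟶ Z} {p : Y ⟶ W} {q : Z ⟶ W} (h : IsPushout f g p q)
    (wf : ιX ≫ f = ιY) (wg : ιX ≫ g = ιZ) (wp : ιY ≫ p = ιW) (wq : ιZ ≫ q = ιW) :
    IsPushout (mapPO j f wf) (mapPO j g wg) (mapPO j p wp) (mapPO j q wq) := by
  refine IsPushout.of_top ?_ ?_ (isPushout_mapPO j f wf)
  · have h' := h.paste_vert (isPushout_mapPO j q wq)
    rwa [← inl_mapPO j g wg, ← inl_mapPO j p wp] at h'
  · rw [mapPO_comp, mapPO_comp]
    exact mapPO_congr j h.w _

end Pushouts

variable (G : AffGpd.{u}) {C C' : CommRingCat.{u}} (ι : C ⟶ G.A) (hι : ι ≫ G.σ = ι ≫ G.τ) (j : C ⟶ C')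

include hι in
theorem ι_p₁ : (ι ≫ G.σ) ≫ G.p₁ = ι ≫ G.σ ≫ G.p₂ := by
  rw [Category.assoc, G.sq.w, ← Category.assoc, ← hι, Category.assoc]

include hι in
theorem ι_γ : (ι ≫ G.σ) ≫ G.γ = ι ≫ G.σ ≫ G.p₂ := by rw [Category.assoc, G.γ_σ]

/-- The groupoid base changed along `j : C ⟶ C'`, for `C` mapping to invariants. -/
def baseChange : AffGpd.{u} where
  A := pushout ι j
  B := pushout (ι ≫ G.σ) j
  P := pushout (ι ≫ G.σ ≫ G.p₂) j
  σ := mapPO j G.σ rfl
  τ := mapPO j G.τ hι.symm
  ε := mapPO j G.ε (by rw [Category.assoc, G.σ_ε, Category.comp_id])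
  p₁ := mapPO j G.p₁ (G.ι_p₁ ι hι)
  p₂ := mapPO j G.p₂ (Category.assoc _ _ _)
  γ := mapPO j G.γ (G.ι_γ ι hι)
  σ_ε := by rw [mapPO_comp, mapPO_congr j G.σ_ε, mapPO_id]
  τ_ε := by rw [mapPO_comp, mapPO_congr j G.τ_ε, mapPO_id]
  γ_τ := by rw [mapPO_comp, mapPO_comp]; exact mapPO_congr j G.γ_τ _
  γ_σ := by rw [mapPO_comp, mapPO_comp]; exact mapPO_congr j G.γ_σ _
  sq := isPushout_cube j G.sq _ _ _ _
  sqS := isPushout_cube j G.sqS _ _ _ _
  n := G.n
  D := G.D.baseChange (isPushout_mapPO j G.σ rfl)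

/-- The map on functions on objects to the base change. -/
def bcA : G.A ⟶ (G.baseChange ι hι j).A := pushout.inl ι j

/-- The map on functions on arrows to the base change. -/
def bcB : G.B ⟶ (G.baseChange ι hι j).B := pushout.inl (ι ≫ G.σ) j

/-- The new base maps to the functions on objects. -/
def bcC : C' ⟶ (G.baseChange ι hι j).A := pushout.inr ι j

/-- The new base maps to the functions on arrows. -/
def bcCB : C' ⟶ (G.baseChange ι hι j).B := pushout.inr (ι ≫ G.σ) j

theorem isPushout_bcA : IsPushout ι j (G.bcA ι hι j) (G.bcC ι hι j) :=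
  IsPushout.of_hasPushout ι j

theorem isPushout_bcB : IsPushout G.σ (G.bcA ι hι j) (G.bcB ι hι j) (G.baseChange ι hι j).σ :=
  isPushout_mapPO j G.σ rfl

theorem τ_inl (a : G.A) : (G.baseChange ι hι j).τ.hom ((G.bcA ι hι j).hom a) =
    (G.bcB ι hι j).hom (G.τ.hom a) :=
  congrArg (fun f : G.A ⟶ (G.baseChange ι hι j).B => f.hom a) (inl_mapPO j G.τ hι.symm)

theorem σ_inl (a : G.A) : (G.baseChange ι hι j).σ.hom ((G.bcA ι hι j).hom a) =
    (G.bcB ι hι j).hom (G.σ.hom a) :=
  congrArg (fun f : G.A ⟶ (G.baseChange ι hι j).B => f.hom a) (inl_mapPO j G.σ rfl)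

theorem τ_inr (c : C') : (G.baseChange ι hι j).τ.hom ((G.bcC ι hι j).hom c) =
    (G.bcCB ι hι j).hom c :=
  congrArg (fun f : C' ⟶ (G.baseChange ι hι j).B => f.hom c) (inr_mapPO j G.τ hι.symm)

theorem σ_inr (c : C') : (G.baseChange ι hι j).σ.hom ((G.bcC ι hι j).hom c) =
    (G.bcCB ι hι j).hom c :=
  congrArg (fun f : C' ⟶ (G.baseChange ι hι j).B => f.hom c) (inr_mapPO j G.σ rfl)

theorem inr_mem_inv (c : C') : (G.bcC ι hι j).hom c ∈ (G.baseChange ι hι j).inv := by
  rw [mem_inv, σ_inr, τ_inr]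

theorem E_inl (a : G.A) :
    (G.baseChange ι hι j).E ((G.bcA ι hι j).hom a) = (G.E a).map (G.bcA ι hι j).hom := by
  rw [E, τ_inl]
  exact DualSys.mat_baseChange G.D (G.isPushout_bcB ι hι j) (G.τ.hom a)

/-- Determinants with coefficients from the new base come from the new base. -/
theorem det_mem_range {C₁ A₁ : Type v} [CommRing C₁] [CommRing A₁] (j₁ : G.inv →+* C₁) (c : C₁ →+* A₁)
    (α : G.A →+* A₁) (hw : α.comp G.inv.subtype = c.comp j₁) {κ : Type*} [Fintype κ] (a : κ → G.A)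
    (r : κ → C₁) (y : C₁) :
    (c y • (1 : Matrix (Fin G.n) (Fin G.n) A₁) + ∑ i, c (r i) • (G.E (a i)).map α).det ∈ c.range := by
  let F : MvPolynomial (Option κ) G.A :=
    ((MvPolynomial.X none : MvPolynomial (Option κ) G.A) • (1 : Matrix (Fin G.n) (Fin G.n) (MvPolynomial (Option κ) G.A)) +
      ∑ i, (MvPolynomial.X (some i) : MvPolynomial (Option κ) G.A) • (G.E (a i)).map MvPolynomial.C).det
  have hF : F ∈ (MvPolynomial.map (σ := Option κ) G.inv.subtype).range := by
    rw [← SetLike.mem_coe, RingHom.coe_range, MvPolynomial.mem_range_map_iff_coeffs_subset]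
    intro x hx
    obtain ⟨d, -, rfl⟩ := MvPolynomial.mem_coeffs_iff.1 hx
    have h := G.det_invariant (R := MvPolynomial (Option κ) G.A) (R' := MvPolynomial (Option κ) G.B)
      MvPolynomial.C MvPolynomial.C (MvPolynomial.map G.σ.hom) (MvPolynomial.map G.τ.hom)
      (fun _ => MvPolynomial.map_C _ _) (fun _ => MvPolynomial.map_C _ _) a
      (fun i => MvPolynomial.X (some i)) (MvPolynomial.X none)
      (fun i => by simp) (by simp)
    have hd := congrArg (MvPolynomial.coeff d) h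
    simp only [MvPolynomial.coeff_map] at hd
    exact ⟨⟨_, hd⟩, rfl⟩
  obtain ⟨F₀, hF₀⟩ := hF
  let w : Option κ → C₁ := fun o => o.elim y r
  refine ⟨MvPolynomial.eval₂Hom j₁ w F₀, ?_⟩
  have e1 : c (MvPolynomial.eval₂Hom j₁ w F₀) = MvPolynomial.eval₂Hom α (c ∘ w) F := by
    rw [← hF₀, MvPolynomial.map_eval₂Hom, MvPolynomial.eval₂Hom_map_hom, ← hw]
    rfl
  rw [e1, RingHom.map_det]
  congr 1
  ext k l
  simp [Matrix.one_apply, Matrix.sum_apply, w, apply_ite (MvPolynomial.eval₂ α (c ∘ w))]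

theorem one_add_sub_eq {R : Type u} [CommRing R] {m : ℕ} (X Y : Matrix (Fin m) (Fin m) R) :
    1 + (X - Y) = (1 : R) • (1 : Matrix (Fin m) (Fin m) R) + ((-1 : R) • Y + X) := by
  module

/-- **Field valued points**: two points over an algebraically closed field agreeing on invariants
are target and source of one arrow over that field. -/
theorem exists_arrow_field {k : Type u} [Field k] [IsAlgClosed k] (x₀ x₁ : G.A →+* k)
    (h : ∀ a ∈ G.inv, x₀ a = x₁ a) :
    ∃ ρ : G.B →+* k, ρ.comp G.τ.hom = x₀ ∧ ρ.comp G.σ.hom = x₁ := by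
  classical
  let C : CommRingCat.{u} := CommRingCat.of G.inv
  let ι : C ⟶ G.A := CommRingCat.ofHom G.inv.subtype
  have hι : ι ≫ G.σ = ι ≫ G.τ := CommRingCat.hom_ext (RingHom.ext fun a => a.2)
  let j : C ⟶ CommRingCat.of k := CommRingCat.ofHom (x₀.comp G.inv.subtype)
  let H := G.baseChange ι hι j
  let y₀ : H.A ⟶ CommRingCat.of k := pushout.desc (CommRingCat.ofHom x₀) (𝟙 _) (by rw [Category.comp_id]; rfl)
  let y₁ : H.A ⟶ CommRingCat.of k := pushout.desc (CommRingCat.ofHom x₁) (𝟙 _) (by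
    rw [Category.comp_id]; exact CommRingCat.hom_ext (RingHom.ext fun a => (h _ a.2).symm))
  have hc₀ : ∀ l : k, y₀.hom ((G.bcC ι hι j).hom l) = l := fun l =>
    congrArg (fun f : CommRingCat.of k ⟶ CommRingCat.of k => f.hom l) (pushout.inr_desc _ _ _)
  have hc₁ : ∀ l : k, y₁.hom ((G.bcC ι hι j).hom l) = l := fun l =>
    congrArg (fun f : CommRingCat.of k ⟶ CommRingCat.of k => f.hom l) (pushout.inr_desc _ _ _)
  have hmax : (RingHom.ker y₀.hom).IsMaximal :=
    RingHom.ker_isMaximal_of_surjective _ fun l => ⟨_, hc₀ l⟩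
  have hmax₁ : (RingHom.ker y₁.hom).IsMaximal :=
    RingHom.ker_isMaximal_of_surjective _ fun l => ⟨_, hc₁ l⟩
  -- norms take values in the base field
  have hN : ∀ z, H.N z ∈ RingHom.ker y₀.hom → H.N z ∈ RingHom.ker y₁.hom := by
    intro z hz
    obtain ⟨m, a, r, hzs⟩ : ∃ (m : ℕ) (a : Fin m → G.A) (r : Fin m → k),
        z = ∑ i, (G.bcC ι hι j).hom (r i) * (G.bcA ι hι j).hom (a i) := by
      clear hz
      induction z using DualSys.induction_of_isPushout (G.isPushout_bcA ι hι j) with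
      | h0 => exact ⟨0, Fin.elim0, Fin.elim0, by simp⟩
      | hgen b y => exact ⟨1, fun _ => b, fun _ => y, by simp [mul_comm]⟩
      | hadd s t hs ht =>
        obtain ⟨m, a, r, rfl⟩ := hs
        obtain ⟨m', a', r', rfl⟩ := ht
        exact ⟨m + m', Fin.append a a', Fin.append r r', by simp [Fin.sum_univ_add]⟩
    have hE : H.E z = ∑ i, (G.bcC ι hι j).hom (r i) • (G.E (a i)).map (G.bcA ι hι j).hom := by
      have hlin : ∀ (l : k) (w : H.A), H.E ((G.bcC ι hι j).hom l * w) = (G.bcC ι hι j).hom l • H.E w := by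
        intro l w
        rw [E, map_mul, show H.τ.hom ((G.bcC ι hι j).hom l) = H.σ.hom ((G.bcC ι hι j).hom l) by
          rw [G.σ_inr ι hι j, G.τ_inr ι hι j], DualSys.mat_smul]
        rfl
      let Eh : H.A →+ Matrix (Fin H.n) (Fin H.n) H.A :=
        AddMonoidHom.mk' H.E fun u v => by simp only [E, map_add, DualSys.mat_add]
      change Eh z = _
      rw [hzs, map_sum]
      refine Finset.sum_congr rfl fun i _ => ?_
      change H.E _ = _
      rw [hlin, G.E_inl ι hι j]
      rfl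
    have hE1 : H.E 1 = (G.E 1).map (G.bcA ι hι j).hom := by
      rw [← map_one (G.bcA ι hι j).hom, G.E_inl ι hι j]
    obtain ⟨l, hl⟩ : H.N z ∈ (G.bcC ι hι j).hom.range := by
      have := G.det_mem_range j.hom (G.bcC ι hι j).hom (G.bcA ι hι j).hom
        (congrArg CommRingCat.Hom.hom (G.isPushout_bcA ι hι j).w)
        (fun o : Option (Fin m) => o.elim 1 a) (fun o => o.elim (-1) r) 1
      convert this using 1
      rw [N, hE, hE1, Fintype.sum_option]
      congr 1
      simp only [Option.elim_none, Option.elim_some, map_one, map_neg]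
      exact one_add_sub_eq _ _
    rw [RingHom.mem_ker, ← hl, hc₀] at hz
    rw [RingHom.mem_ker, ← hl, hc₁, hz]
  obtain ⟨r, hr, hru, hle⟩ := H.exists_arrow_of_N hN
  have hτr : r.comap H.τ.hom = RingHom.ker y₀.hom := (hmax.eq_of_le (hr.comap _).ne_top hle).symm
  letI := H.σ.hom.toAlgebra
  have : Module.Finite H.A H.B := H.D.finite
  let q : k →+* H.B ⧸ r := (Ideal.Quotient.mk r).comp (G.bcCB ι hι j).hom
  have hbij : Function.Bijective q := by
    letI := q.toAlgebra
    have : Module.Finite k (H.B ⧸ r) := by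
      obtain ⟨s, hs⟩ := (inferInstance : Module.Finite H.A H.B).fg_top
      refine ⟨⟨s.image (Ideal.Quotient.mk r), ?_⟩⟩
      rw [eq_top_iff]
      rintro b -
      obtain ⟨b, rfl⟩ := Ideal.Quotient.mk_surjective b
      have hb : b ∈ Submodule.span H.A (s : Set H.B) := hs ▸ Submodule.mem_top
      induction hb using Submodule.span_induction with
      | mem x hx => exact Submodule.subset_span (by simpa using ⟨x, hx, rfl⟩)
      | zero => rw [map_zero]; exact zero_mem _
      | add x y _ _ hx hy => rw [map_add]; exact add_mem hx hy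
      | smul w x _ hx =>
        have hw : w - (G.bcC ι hι j).hom (y₁.hom w) ∈ RingHom.ker y₁.hom := by
          rw [RingHom.mem_ker, map_sub, hc₁, sub_self]
        rw [← hru, Ideal.mem_comap, map_sub, G.σ_inr ι hι j, ← Ideal.Quotient.eq] at hw
        rw [Algebra.smul_def, RingHom.algebraMap_toAlgebra, map_mul, hw]
        exact (Submodule.span k _).smul_mem (y₁.hom w) hx
    exact IsAlgClosed.algebraMap_bijective_of_isIntegral
  let e := RingEquiv.ofBijective q hbij
  let ψ : H.B →+* k := e.symm.toRingHom.comp (Ideal.Quotient.mk r)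
  have hψc : ∀ l, ψ ((G.bcCB ι hι j).hom l) = l := fun l => e.symm_apply_apply l
  have hψker : ∀ b, b ∈ r → ψ b = 0 := fun b hb => by
    change e.symm (Ideal.Quotient.mk r b) = 0
    rw [Ideal.Quotient.eq_zero_iff_mem.2 hb, map_zero]
  refine ⟨ψ.comp (G.bcB ι hι j).hom, RingHom.ext fun a => ?_, RingHom.ext fun a => ?_⟩
  · have hw : (G.bcA ι hι j).hom a - (G.bcC ι hι j).hom (x₀ a) ∈ RingHom.ker y₀.hom := by
      rw [RingHom.mem_ker, map_sub, hc₀, sub_eq_zero]
      exact congrArg (fun f : G.A ⟶ CommRingCat.of k => f.hom a) (pushout.inl_desc _ _ _)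
    rw [← hτr, Ideal.mem_comap, map_sub, G.τ_inl ι hι j, G.τ_inr ι hι j] at hw
    have h0 := hψker _ hw
    rw [map_sub, hψc, sub_eq_zero] at h0
    exact h0
  · have hw : (G.bcA ι hι j).hom a - (G.bcC ι hι j).hom (x₁ a) ∈ RingHom.ker y₁.hom := by
      rw [RingHom.mem_ker, map_sub, hc₁, sub_eq_zero]
      exact congrArg (fun f : G.A ⟶ CommRingCat.of k => f.hom a) (pushout.inl_desc _ _ _)
    rw [← hru, Ideal.mem_comap, map_sub, G.σ_inl ι hι j, G.σ_inr ι hι j] at hw
    have h0 := hψker _ hw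
    rw [map_sub, hψc, sub_eq_zero] at h0
    exact h0

/-- Points of the invariant ring over an algebraically closed field lift. -/
theorem exists_lift_field {k : Type u} [Field k] [IsAlgClosed k] (μ : G.inv →+* k) :
    ∃ x : G.A →+* k, x.comp G.inv.subtype = μ := by
  have hint := G.isIntegral
  have hp : (RingHom.ker μ).IsPrime := RingHom.ker_isPrime μ
  obtain ⟨⟨u, hu⟩, hu'⟩ := G.comap_surjective ⟨RingHom.ker μ, hp⟩
  have hu'' : u.comap (algebraMap G.inv G.A) = RingHom.ker μ := congrArg PrimeSpectrum.asIdeal hu'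
  have : u.LiesOver (RingHom.ker μ) := ⟨hu''.symm⟩
  let R := G.inv ⧸ RingHom.ker μ
  let Sq := G.A ⧸ u
  letI : Algebra R k := (RingHom.kerLift μ).toAlgebra
  have hRk : Function.Injective (algebraMap R k) := RingHom.kerLift_injective μ
  have hRS : Function.Injective (algebraMap R Sq) := by
    rw [injective_iff_map_eq_zero]
    intro r hr
    obtain ⟨r, rfl⟩ := Ideal.Quotient.mk_surjective r
    rw [Ideal.Quotient.eq_zero_iff_mem, ← hu'', Ideal.mem_comap, ← Ideal.Quotient.eq_zero_iff_mem]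
    exact hr
  have : Module.IsTorsionFree R k := Module.isTorsionFree_iff_algebraMap_injective.2 hRk
  have : Module.IsTorsionFree R Sq := Module.isTorsionFree_iff_algebraMap_injective.2 hRS
  have : Algebra.IsIntegral R Sq := Algebra.IsIntegral.tower_top (R := G.inv)
  let x' : Sq →ₐ[R] k := IsAlgClosed.lift
  refine ⟨x'.toRingHom.comp (Ideal.Quotient.mk u), RingHom.ext fun c => ?_⟩
  have := x'.commutes (Ideal.Quotient.mk _ c)
  exact this

end Groth.AffGpd
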