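import Mathlib
import Groth.Agent.GitQuot.AffGpd.BaseChange

/-!
# Flat base change of invariants, and a local test ring with infinite residue field
-/

set_option autoImplicit false

universe u

open CategoryTheory CategoryTheory.Limits TensorProduct Polynomial

noncomputable section

namespace Groth.AffGpd

section Equiv

variable {C C' X Y : Type u} [CommRing C] [CommRing C'] [CommRing X] [CommRing Y]
  [Algebra C C'] [Algebra C X] [Algebra C Y]

/-- The base change `C ⟶ X` pushed along `C ⟶ C'`. -/
abbrev pushX (C C' X : Type u) [CommRing C] [CommRing C'] [CommRing X] [Algebra C C'] [Algebra C X] :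
    CommRingCat.{u} :=
  pushout (CommRingCat.ofHom (algebraMap C X)) (CommRingCat.ofHom (algebraMap C C'))

/-- `C' ⊗ X` as a pushout. -/
def pushEquiv : (C' ⊗[C] X) ≃+* pushX C C' X :=
  ((CommRingCat.isPushout_tensorProduct C C' X).flip.isoPushout).commRingCatIsoToRingEquiv

theorem pushEquiv_left (c : C') :
    pushEquiv (C := C) (X := X) (c ⊗ₜ 1) =
      (pushout.inr (CommRingCat.ofHom (algebraMap C X)) (CommRingCat.ofHom (algebraMap C C'))).hom c :=
  congrArg (fun f : CommRingCat.of C' ⟶ pushX C C' X => f.hom c)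
    (CommRingCat.isPushout_tensorProduct C C' X).flip.inr_isoPushout_hom

theorem pushEquiv_right (x : X) :
    pushEquiv (C := C) (C' := C') ((1 : C') ⊗ₜ x) =
      (pushout.inl (CommRingCat.ofHom (algebraMap C X)) (CommRingCat.ofHom (algebraMap C C'))).hom x :=
  congrArg (fun f : CommRingCat.of X ⟶ pushX C C' X => f.hom x)
    (CommRingCat.isPushout_tensorProduct C C' X).flip.inl_isoPushout_hom

theorem pushEquiv_tmul (c : C') (x : X) :
    pushEquiv (C := C) (c ⊗ₜ x) =
      (pushout.inr (CommRingCat.ofHom (algebraMap C X)) (CommRingCat.ofHom (algebraMap C C'))).hom c *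
      (pushout.inl (CommRingCat.ofHom (algebraMap C X)) (CommRingCat.ofHom (algebraMap C C'))).hom x := by
  rw [← pushEquiv_left, ← pushEquiv_right, ← map_mul, Algebra.TensorProduct.tmul_mul_tmul, mul_one,
    one_mul]

theorem mapPO_pushEquiv (f : X →ₐ[C] Y) (w : CommRingCat.ofHom (algebraMap C X) ≫
      CommRingCat.ofHom f.toRingHom = CommRingCat.ofHom (algebraMap C Y)) (z : C' ⊗[C] X) :
    (mapPO (CommRingCat.ofHom (algebraMap C C')) (CommRingCat.ofHom f.toRingHom) w).hom (pushEquiv z) =
      pushEquiv (f.toLinearMap.lTensor C' z) := by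
  induction z using TensorProduct.induction_on with
  | zero => simp
  | add s t hs ht => simp only [map_add, hs, ht]
  | tmul c x =>
    rw [LinearMap.lTensor_tmul, pushEquiv_tmul, pushEquiv_tmul, map_mul]
    congr 1
    · exact congrArg (fun g : CommRingCat.of C' ⟶ pushX C C' Y => g.hom c) (inr_mapPO _ _ w)
    · exact congrArg (fun g : CommRingCat.of X ⟶ pushX C C' Y => g.hom x) (inl_mapPO _ _ w)

end Equiv

section Exact

variable (G : AffGpd.{u}) {C C' : Type u} [CommRing C] [CommRing C'] [Algebra C C'] [Algebra C G.A]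
  [Module.Flat C C']

variable (hinj : Function.Injective (algebraMap C G.A))
  (hrange : ∀ a, a ∈ G.inv ↔ a ∈ Set.range (algebraMap C G.A))

include hinj hrange in
/-- Invariants commute with flat base change, in tensor form. -/
theorem exists_of_lTensor_eq {M : Type u} [AddCommGroup M] [Module C M] (σ τ : G.A →ₗ[C] M)
    (e : M →+ G.B) (he : Function.Injective e) (hσ : ∀ a, e (σ a) = G.σ.hom a)
    (hτ : ∀ a, e (τ a) = G.τ.hom a) :
    Function.Injective ((Algebra.linearMap C G.A).lTensor C') ∧
      ∀ z, σ.lTensor C' z = τ.lTensor C' z → ∃ w, (Algebra.linearMap C G.A).lTensor C' w = z := by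
  refine ⟨Module.Flat.lTensor_preserves_injective_linearMap _ hinj, fun z hz => ?_⟩
  have hex : Function.Exact (Algebra.linearMap C G.A) (σ - τ) := by
    intro a
    rw [LinearMap.sub_apply, sub_eq_zero, ← he.eq_iff, hσ, hτ, ← G.mem_inv, hrange]
    exact Iff.rfl
  exact (Module.Flat.lTensor_exact C' hex z).1 (by rw [LinearMap.lTensor_sub, LinearMap.sub_apply, hz, sub_self])

end Exact

section BaseChange

variable (G : AffGpd.{u}) {C C' : Type u} [CommRing C] [CommRing C'] [Algebra C C'] [Algebra C G.A]
  [Algebra C G.B] [Module.Flat C C']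
  (hB : ∀ c, algebraMap C G.B c = G.σ.hom (algebraMap C G.A c))
  (hinj : Function.Injective (algebraMap C G.A))
  (hrange : ∀ a, a ∈ G.inv ↔ a ∈ Set.range (algebraMap C G.A))

include hrange in
theorem ι_invariant (c : C) : G.σ.hom (algebraMap C G.A c) = G.τ.hom (algebraMap C G.A c) :=
  (hrange _).2 ⟨c, rfl⟩

/-- `σ` over `C`. -/
def σAlg : G.A →ₐ[C] G.B := { G.σ.hom with commutes' := fun c => (hB c).symm }

/-- `τ` over `C`. -/
def τAlg : G.A →ₐ[C] G.B :=
  { G.τ.hom with commutes' := fun c => ((G.ι_invariant hrange c).symm.trans (hB c).symm) }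

include hrange in
theorem hι : CommRingCat.ofHom (algebraMap C G.A) ≫ G.σ = CommRingCat.ofHom (algebraMap C G.A) ≫ G.τ :=
  CommRingCat.hom_ext (RingHom.ext fun c => G.ι_invariant hrange c)

include hB in
theorem ofHom_algebraMap_B :
    CommRingCat.ofHom (algebraMap C G.B) = CommRingCat.ofHom (algebraMap C G.A) ≫ G.σ :=
  CommRingCat.hom_ext (RingHom.ext hB)

/-- The base changed groupoid. -/
abbrev bc (C' : Type u) [CommRing C'] [Algebra C C'] : AffGpd.{u} :=
  G.baseChange (CommRingCat.ofHom (algebraMap C G.A)) (G.hι hrange) (CommRingCat.ofHom (algebraMap C C'))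

/-- functions on arrows after base change -/
def eB : (C' ⊗[C] G.B) ≃+* (G.bc hrange C').B :=
  pushEquiv.trans (RingEquiv.refl _) |>.trans
    (CategoryTheory.Iso.commRingCatIsoToRingEquiv
      (eqToIso (congrArg (fun f => pushout f (CommRingCat.ofHom (algebraMap C C'))) (G.ofHom_algebraMap_B hB))))

theorem eB_tmul (c : C') (b : G.B) : G.eB hB hrange (c ⊗ₜ b) =
    (G.bcCB (CommRingCat.ofHom (algebraMap C G.A)) (G.hι hrange) _).hom c *
      (G.bcB (CommRingCat.ofHom (algebraMap C G.A)) (G.hι hrange) _).hom b := by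
  have key : ∀ (f : CommRingCat.of C ⟶ G.B) (h : CommRingCat.ofHom (algebraMap C G.B) = f),
      (eqToHom (congrArg (fun f => pushout f (CommRingCat.ofHom (algebraMap C C'))) h)).hom
        (pushEquiv (c ⊗ₜ b)) =
      (pushout.inr f (CommRingCat.ofHom (algebraMap C C'))).hom c *
        (pushout.inl f (CommRingCat.ofHom (algebraMap C C'))).hom b := by
    intro f h
    subst h
    exact pushEquiv_tmul c b
  exact key _ (G.ofHom_algebraMap_B hB)

theorem σ_pushEquiv (z : C' ⊗[C] G.A) :
    (G.bc hrange C').σ.hom (pushEquiv z) = G.eB hB hrange ((G.σAlg hB).toLinearMap.lTensor C' z) := by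
  induction z using TensorProduct.induction_on with
  | zero => rw [map_zero, map_zero, map_zero]; exact map_zero _
  | add s t hs ht =>
    rw [map_add, map_add, map_add, ← hs, ← ht]
    exact map_add _ _ _
  | tmul c a =>
    rw [LinearMap.lTensor_tmul, eB_tmul, pushEquiv_tmul]
    refine (map_mul (G.bc hrange C').σ.hom _ _).trans ?_
    exact congrArg₂ (· * ·) (G.σ_inr _ (G.hι hrange) (CommRingCat.ofHom (algebraMap C C')) c) (G.σ_inl _ (G.hι hrange) (CommRingCat.ofHom (algebraMap C C')) a)

theorem τ_pushEquiv (z : C' ⊗[C] G.A) :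
    (G.bc hrange C').τ.hom (pushEquiv z) = G.eB hB hrange ((G.τAlg hB hrange).toLinearMap.lTensor C' z) := by
  induction z using TensorProduct.induction_on with
  | zero => rw [map_zero, map_zero, map_zero]; exact map_zero _
  | add s t hs ht =>
    rw [map_add, map_add, map_add, ← hs, ← ht]
    exact map_add _ _ _
  | tmul c a =>
    rw [LinearMap.lTensor_tmul, eB_tmul, pushEquiv_tmul]
    refine (map_mul (G.bc hrange C').τ.hom _ _).trans ?_
    exact congrArg₂ (· * ·) (G.τ_inr _ (G.hι hrange) (CommRingCat.ofHom (algebraMap C C')) c) (G.τ_inl _ (G.hι hrange) (CommRingCat.ofHom (algebraMap C C')) a)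

include hB hinj in
/-- **Invariants commute with flat base change.** -/
theorem bc_inv :
    Function.Injective (G.bcC (CommRingCat.ofHom (algebraMap C G.A)) (G.hι hrange)
        (CommRingCat.ofHom (algebraMap C C'))).hom ∧
      ∀ x, x ∈ (G.bc hrange C').inv ↔ x ∈ Set.range (G.bcC (CommRingCat.ofHom (algebraMap C G.A))
        (G.hι hrange) (CommRingCat.ofHom (algebraMap C C'))).hom := by
  obtain ⟨h1, h2⟩ := G.exists_of_lTensor_eq (C' := C') hinj hrange (M := G.B) (G.σAlg hB).toLinearMap
    (G.τAlg hB hrange).toLinearMap (AddMonoidHom.id _) Function.injective_id (fun _ => rfl) (fun _ => rfl)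
  have hincl : ∀ c : C', pushEquiv ((Algebra.linearMap C G.A).lTensor C' (c ⊗ₜ 1)) =
      (G.bcC (CommRingCat.ofHom (algebraMap C G.A)) (G.hι hrange)
        (CommRingCat.ofHom (algebraMap C C'))).hom c := by
    intro c
    rw [LinearMap.lTensor_tmul, Algebra.linearMap_apply, map_one]
    exact pushEquiv_left c
  refine ⟨fun a b hab => ?_, fun x => ⟨fun hx => ?_, ?_⟩⟩
  · rw [← hincl, ← hincl] at hab
    have := h1 (pushEquiv.injective hab)
    simpa using congrArg (TensorProduct.rid C C') this
  · obtain ⟨z, rfl⟩ := (pushEquiv (C := C) (C' := C') (X := G.A)).surjective x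
    rw [mem_inv, G.σ_pushEquiv hB hrange, G.τ_pushEquiv hB hrange] at hx
    obtain ⟨w, rfl⟩ := h2 z ((G.eB hB hrange).injective hx)
    obtain ⟨c, rfl⟩ : ∃ c : C', c ⊗ₜ (1 : C) = w :=
      ⟨TensorProduct.rid C C' w, by rw [← TensorProduct.rid_symm_apply, LinearEquiv.symm_apply_apply]⟩
    exact ⟨c, (hincl c).symm⟩
  · rintro ⟨c, rfl⟩
    exact G.inr_mem_inv _ (G.hι hrange) _ c

end BaseChange

section Test

variable {C : Type u} [CommRing C]

/-- A flat local `C`-algebra with infinite residue field over the prime `q`. -/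
abbrev TestRing (q : Ideal C) [q.IsPrime] : Type u :=
  Localization.AtPrime (q.map (Polynomial.C : C →+* C[X]))

instance (q : Ideal C) [q.IsPrime] : Module.Flat C (TestRing q) := Module.Flat.trans C C[X] _

theorem notMem_map_C {q : Ideal C} (hq : q ≠ ⊤) {m k : ℕ} (h : m ≠ k) :
    (X ^ m - X ^ k : C[X]) ∉ q.map (Polynomial.C : C →+* C[X]) := fun hmem =>
  q.ne_top_iff_one.1 hq (by simpa [h, Polynomial.coeff_X_pow] using Ideal.mem_map_C_iff.1 hmem m)

instance (q : Ideal C) [hq : q.IsPrime] : Infinite (IsLocalRing.ResidueField (TestRing q)) := by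
  refine Infinite.of_injective
    (fun m : ℕ => IsLocalRing.residue _ (algebraMap C[X] (TestRing q) (X ^ m))) fun m k h => ?_
  by_contra hne
  refine notMem_map_C hq.ne_top hne ?_
  rw [← sub_eq_zero, ← map_sub, ← map_sub, IsLocalRing.residue_eq_zero_iff] at h
  exact (IsLocalization.AtPrime.to_map_mem_maximal_iff (TestRing q) _ _).1 h

/-- A linear map that is injective after all base changes to test rings is injective. -/
theorem injective_of_lTensor {M N : Type u} [AddCommGroup M] [AddCommGroup N] [Module C M] [Module C N]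
    (f : M →ₗ[C] N)
    (h : ∀ (q : Ideal C) [q.IsMaximal], Function.Injective (f.lTensor (TestRing q))) :
    Function.Injective f := by
  rw [injective_iff_map_eq_zero]
  intro x hx
  by_contra hx0
  obtain ⟨q, hq, hle⟩ := Ideal.exists_le_maximal (LinearMap.ker (LinearMap.toSpanSingleton C M x))
    ((Ideal.ne_top_iff_one _).2 (by simpa using hx0))
  have h0 : (1 : TestRing q) ⊗ₜ[C] x = 0 := h q (by simp [hx])
  let ann := LinearMap.ker (LinearMap.toSpanSingleton C M x)
  let s : (C ⧸ ann) →ₗ[C] M := ann.liftQ (LinearMap.toSpanSingleton C M x) le_rfl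
  have hs : Function.Injective s := LinearMap.ker_eq_bot.1 (Submodule.ker_liftQ_eq_bot _ _ _ le_rfl)
  have h1 : (1 : TestRing q) ⊗ₜ[C] (Submodule.Quotient.mk (1 : C) : C ⧸ ann) = 0 :=
    Module.Flat.lTensor_preserves_injective_linearMap (M := TestRing q) s hs (by
      rw [map_zero, LinearMap.lTensor_tmul,
        show s (Submodule.Quotient.mk (1 : C)) = x from one_smul C x]
      exact h0)
  let κ := IsLocalRing.ResidueField (TestRing q)
  let r : (C ⧸ ann) →ₗ[C] κ := ann.liftQ (Algebra.linearMap C κ) fun c hc => by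
    have hcq : (Polynomial.C c : C[X]) ∈ q.map (Polynomial.C : C →+* C[X]) :=
      Ideal.mem_map_of_mem _ (hle hc)
    rw [LinearMap.mem_ker, Algebra.linearMap_apply,
      IsScalarTower.algebraMap_apply C (TestRing q) κ, IsScalarTower.algebraMap_apply C C[X] (TestRing q)]
    exact (IsLocalRing.residue_eq_zero_iff _).2
      ((IsLocalization.AtPrime.to_map_mem_maximal_iff (TestRing q) _ _).2 hcq)
  have := congrArg (TensorProduct.lift ((LinearMap.mul C κ).compl₁₂
    (IsScalarTower.toAlgHom C (TestRing q) κ).toLinearMap r)) h1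
  have hr : r (Submodule.Quotient.mk (1 : C)) = 1 := map_one (algebraMap C κ)
  rw [TensorProduct.lift.tmul, LinearMap.compl₁₂_apply, LinearMap.mul_apply', hr, map_zero,
    AlgHom.toLinearMap_apply, map_one, mul_one] at this
  exact one_ne_zero this

end Test

end Groth.AffGpd
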