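import Mathlib

/-!
Bases inside a submodule over a semilocal ring (adapted from `Groth.Agent.Curves2.Lattice`, without
domain and Noetherian hypotheses on the base).
-/

universe u

namespace Groth.GitQuot.Semilocal

open TensorProduct

/-- A module over a local ring with infinite residue field is not covered by finitely many proper
submodules. -/
lemma exists_forall_notMem {O : Type u} [CommRing O] [IsLocalRing O]
    [Infinite (IsLocalRing.ResidueField O)] {V : Type*} [AddCommGroup V] [Module O V]
    {ι : Type*} (s : Finset ι) (P : ι → Submodule O V) :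
    (∀ i ∈ s, P i ≠ ⊤) → ∃ x, ∀ i ∈ s, x ∉ P i := by
  classical
  induction s using Finset.induction_on with
  | empty => exact fun _ => ⟨0, by simp⟩
  | insert a s ha ih =>
    intro h
    obtain ⟨x, hx⟩ := ih fun i hi => h i (Finset.mem_insert_of_mem hi)
    by_cases hxa : x ∉ P a
    · exact ⟨x, by simpa [hxa] using hx⟩
    push_neg at hxa
    obtain ⟨y, hy⟩ := SetLike.exists_not_mem_of_ne_top _ (h a (Finset.mem_insert_self _ _))
    let g : IsLocalRing.ResidueField O → O := Function.surjInv IsLocalRing.residue_surjective
    have hg : ∀ t, IsLocalRing.residue O (g t) = t :=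
      Function.surjInv_eq IsLocalRing.residue_surjective
    have hbad : ∀ i ∈ insert a s, Set.Subsingleton {t | x + g t • y ∈ P i ∧ t ≠ 0} := by
      intro i hi t₁ ht₁ t₂ ht₂
      by_contra hne
      have hu : IsUnit (g t₁ - g t₂) := by
        rw [← IsLocalRing.residue_ne_zero_iff_isUnit, map_sub, hg, hg]
        exact sub_ne_zero.2 hne
      have h1 := (P i).sub_mem ht₁.1 ht₂.1
      rw [add_sub_add_left_eq_sub, ← sub_smul] at h1
      have hyi : y ∈ P i := (Submodule.smul_mem_iff_of_isUnit _ hu).1 h1
      rcases Finset.mem_insert.1 hi with rfl | hi'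
      · exact hy hyi
      · have h2 := (P i).sub_mem ht₁.1 ((P i).smul_mem (g t₁) hyi)
        rw [add_sub_cancel_right] at h2
        exact hx i hi' h2
    have hfin : (insert (0 : IsLocalRing.ResidueField O)
        (⋃ i ∈ insert a s, {t | x + g t • y ∈ P i ∧ t ≠ 0})).Finite :=
      ((Finset.finite_toSet _).biUnion fun i hi => (hbad i hi).finite).insert 0
    obtain ⟨t, ht⟩ := hfin.infinite_compl.nonempty
    refine ⟨x + g t • y, fun i hi hmem => ht ?_⟩
    by_cases h0 : t = 0
    · exact Or.inl h0
    · exact Or.inr (Set.mem_biUnion hi ⟨hmem, h0⟩)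

variable {O : Type u} [CommRing O] [IsLocalRing O]

/-- Finitely many residue fields: pick elements of `P` reducing to bases everywhere. -/
lemma exists_isUnit_det {B : Type u} [CommRing B] [Algebra O B]
    [Infinite (IsLocalRing.ResidueField O)] (hmax : {I : Ideal B | I.IsMaximal}.Finite)
    {n : ℕ} (P : Submodule O (Fin n → B))
    (hP : Submodule.span B (P : Set (Fin n → B)) = ⊤) :
    ∃ x : Fin n → (Fin n → B), (∀ i, x i ∈ P) ∧ IsUnit (Matrix.of x).det := by
  classical
  let red : ∀ I : Ideal B, (Fin n → B) →ₛₗ[Ideal.Quotient.mk I] (Fin n → B ⧸ I) := fun I =>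
    { toFun := fun v i => Ideal.Quotient.mk I (v i)
      map_add' := fun v w => by funext i; simp
      map_smul' := fun r v => by funext i; simp }
  have key : ∀ m, m ≤ n → ∃ x : Fin m → (Fin n → B), (∀ i, x i ∈ P) ∧
      ∀ I : Ideal B, I.IsMaximal → LinearIndependent (B ⧸ I) (fun i => red I (x i)) := by
    intro m
    induction m with
    | zero => exact fun _ => ⟨Fin.elim0, fun i => i.elim0, fun I _ => linearIndependent_empty_type⟩
    | succ m ih =>
      intro hm
      obtain ⟨x, hx, hli⟩ := ih (by omega)
      let W : ∀ I : Ideal B, Submodule O ↥P := fun I =>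
        (((Submodule.span (B ⧸ I) (Set.range fun i => red I (x i))).comap (red I)).restrictScalars
          O).comap P.subtype
      have hW : ∀ I ∈ hmax.toFinset, W I ≠ ⊤ := by
        intro I hI htop
        have hIm : I.IsMaximal := hmax.mem_toFinset.1 hI
        let := Ideal.Quotient.field I
        have hall : Submodule.span B (P : Set (Fin n → B)) ≤
            (Submodule.span (B ⧸ I) (Set.range fun i => red I (x i))).comap (red I) :=
          Submodule.span_le.2 fun v hv => (htop ▸ Submodule.mem_top : (⟨v, hv⟩ : ↥P) ∈ W I)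
        rw [hP] at hall
        have h1 : Submodule.span (B ⧸ I) (Set.range fun i => red I (x i)) = ⊤ := by
          rw [eq_top_iff]
          rintro v -
          obtain ⟨w, rfl⟩ : ∃ w, red I w = v :=
            ⟨fun i => (Ideal.Quotient.mk_surjective (v i)).choose,
              funext fun i => (Ideal.Quotient.mk_surjective (v i)).choose_spec⟩
          exact hall Submodule.mem_top
        have h2 := finrank_span_eq_card (hli I hIm)
        rw [h1, finrank_top, Module.finrank_fin_fun, Fintype.card_fin] at h2
        omega
      obtain ⟨v, hv⟩ := exists_forall_notMem hmax.toFinset W hW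
      refine ⟨Fin.cons (v : Fin n → B) x, fun i => Fin.cases v.2 hx i, fun I hI => ?_⟩
      let := Ideal.Quotient.field I
      have : (fun i => red I (Fin.cons (α := fun _ => Fin n → B) (v : Fin n → B) x i)) =
          Fin.cons (red I v) (fun i => red I (x i)) := by
        funext i; refine Fin.cases ?_ (fun j => ?_) i <;> simp
      rw [this, linearIndependent_finCons]
      exact ⟨hli I hI, hv I (hmax.mem_toFinset.2 hI)⟩
  obtain ⟨x, hx, hli⟩ := key n le_rfl
  refine ⟨x, hx, ?_⟩
  by_contra hu
  obtain ⟨I, hI, hdI⟩ := exists_max_ideal_of_mem_nonunits hu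
  let := Ideal.Quotient.field I
  have h1 : ((Matrix.of x).map (Ideal.Quotient.mk I)).det ≠ 0 := by
    rw [← isUnit_iff_ne_zero, ← Matrix.isUnit_iff_isUnit_det,
      ← Matrix.linearIndependent_rows_iff_isUnit]
    exact hli I hI
  apply h1
  rw [← RingHom.mapMatrix_apply, ← RingHom.map_det]
  exact Ideal.Quotient.eq_zero_iff_mem.2 hdI

end Groth.GitQuot.Semilocal
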