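import Mathlib
import Groth.Agent.GitQuot.AffGpd.Basic
import Groth.Agent.GitQuot.AffGpd.Semilocal

/-!
# An affine equivalence relation over local invariants with infinite residue field is split
-/

set_option autoImplicit false

universe u

open CategoryTheory Matrix Polynomial TensorProduct

noncomputable section

namespace Groth.AffGpd

variable (G : AffGpd.{u})

/-- The polynomial `det (1 + (X - 1) E 1)`: its value on a fibre is `X ^ rank`. -/
def rankPoly : G.A[X] :=
  ((1 : G.A[X]) • (1 : Matrix (Fin G.n) (Fin G.n) G.A[X]) +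
    ∑ _i : Unit, (X - 1 : G.A[X]) • (G.E 1).map C).det

theorem rankPoly_coeff_mem_inv (j : ℕ) : G.rankPoly.coeff j ∈ G.inv := by
  have h := G.det_invariant (R := G.A[X]) (R' := G.B[X]) C C (Polynomial.mapRingHom G.σ.hom)
    (Polynomial.mapRingHom G.τ.hom) (fun _ => by simp) (fun _ => by simp) (fun _ : Unit => (1 : G.A))
    (fun _ => X - 1) 1 (fun _ => by simp) (by simp)
  have := congrArg (fun p : G.B[X] => p.coeff j) h
  simpa [mem_inv, rankPoly] using this

theorem det_one_add_smul_one {R : Type u} [CommRing R] (d : ℕ) (c : R) :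
    (1 + c • (1 : Matrix (Fin d) (Fin d) R)).det = (1 + c) ^ d := by
  rw [show (1 : Matrix (Fin d) (Fin d) R) + c • 1 = (1 + c) • 1 by rw [add_smul, one_smul],
    Matrix.det_smul, Matrix.det_one, mul_one, Fintype.card_fin]

theorem map_rankPoly (P : Ideal G.A) [P.IsMaximal] :
    letI := G.σ.hom.toAlgebra
    G.rankPoly.map (Ideal.Quotient.mk P) = X ^ Module.finrank (G.A ⧸ P) ((G.A ⧸ P) ⊗[G.A] G.B) := by
  letI := G.σ.hom.toAlgebra
  letI := Ideal.Quotient.field P
  have : Module.Finite G.A G.B := G.D.finite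
  let κ := G.A ⧸ P
  let π : G.A →+* κ := Ideal.Quotient.mk P
  let T := CommRingCat.of (κ ⊗[G.A] G.B)
  let p : G.B ⟶ T := CommRingCat.ofHom Algebra.TensorProduct.includeRight.toRingHom
  let q : CommRingCat.of κ ⟶ T := CommRingCat.ofHom Algebra.TensorProduct.includeLeftRingHom
  have hpo : IsPushout G.σ (CommRingCat.ofHom (R := G.A) π) p q :=
    (CommRingCat.isPushout_tensorProduct G.A κ G.B).flip
  let D₁ := G.D.baseChange hpo
  let d := Module.finrank κ (κ ⊗[G.A] G.B)
  let b : Module.Basis (Fin d) κ (κ ⊗[G.A] G.B) := Module.finBasisOfFinrankEq _ _ rfl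
  have hq : ∀ (a : κ) (y : κ ⊗[G.A] G.B), q.hom a * y = a • y := fun a y =>
    (Algebra.smul_def a y).symm
  let D₂ : DualSys q d :=
    { x := fun k => b k
      φ := fun k => (b.coord k).toAddMonoidHom
      φ_smul := fun k a y => by
        rw [hq]
        exact (b.coord k).map_smul a y
      sum_eq := fun y => by
        conv_rhs => rw [← b.sum_repr y]
        exact Finset.sum_congr rfl fun k _ => hq _ _ }
  have hone : D₂.mat 1 = 1 := by
    ext k l
    change b.repr (1 * b l) k = _
    rw [one_mul, Module.Basis.repr_self, Matrix.one_apply, Finsupp.single_apply]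
    exact if_congr eq_comm rfl rfl
  have hE : ((G.E 1).map C).map (Polynomial.map π) = (D₁.mat 1).map C := by
    rw [← map_one p.hom, DualSys.mat_baseChange, E, map_one, Matrix.map_map, Matrix.map_map]
    ext k l
    simp only [Matrix.map_apply, Function.comp_apply, Polynomial.map_C]
    rfl
  let U : Matrix (Fin G.n) (Fin d) κ[X] := (D₁.cross D₂ 1).map C
  let V : Matrix (Fin d) (Fin G.n) κ[X] := (D₂.cross D₁ 1).map C
  have hUV : U * V = (D₁.mat 1).map C := by
    rw [← Matrix.map_mul, DualSys.cross_mul_cross, one_mul]; rfl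
  have hVU : V * U = 1 := by
    rw [← Matrix.map_mul, DualSys.cross_mul_cross, one_mul]
    change (D₂.mat 1).map C = 1
    rw [hone, Matrix.map_one _ (map_zero _) (map_one _)]
  rw [rankPoly, Fintype.sum_unique, one_smul, ← Polynomial.coe_mapRingHom, RingHom.map_det]
  rw [map_add, map_one, RingHom.mapMatrix_apply, Polynomial.coe_mapRingHom]
  have : ((X - 1 : G.A[X]) • (G.E 1).map C).map (Polynomial.map π) =
      ((X - 1 : κ[X]) • U) * V := by
    rw [Matrix.smul_mul, hUV, ← hE]
    ext k l
    simp
  rw [this, Matrix.det_one_add_mul_comm, Matrix.mul_smul, hVU, det_one_add_smul_one]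
  rw [add_sub_cancel]

section Local

variable {O : Type u} [CommRing O] [Algebra O G.A]

theorem finite_maximalIdeals [IsLocalRing O]
    (hrange : ∀ a, a ∈ G.inv ↔ a ∈ Set.range (algebraMap O G.A))
    (hinj : Function.Injective (algebraMap O G.A)) :
    {I : Ideal G.A | I.IsMaximal}.Finite ∧
      ∀ I : Ideal G.A, I.IsMaximal → I.comap (algebraMap O G.A) = IsLocalRing.maximalIdeal O := by
  have hint : ∀ a : G.A, IsIntegral O a := by
    intro a
    rcases subsingleton_or_nontrivial G.A with hs | hs
    · exact ⟨X, monic_X, Subsingleton.elim _ _⟩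
    have h := G.isIntegral.isIntegral a
    obtain ⟨P, hP, hPa⟩ := h
    obtain ⟨P', hP', hmonic⟩ : ∃ P' : O[X], P'.map (algebraMap O G.A) = P.map G.inv.subtype ∧ P'.Monic := by
      have hl : P.map G.inv.subtype ∈ Polynomial.lifts (algebraMap O G.A) := by
        rw [Polynomial.lifts_iff_coeff_lifts]
        intro k
        rw [Polynomial.coeff_map]
        exact (hrange _).1 (P.coeff k).2
      obtain ⟨P', hP', -, hm⟩ := Polynomial.lifts_and_degree_eq_and_monic hl (hP.map _)
      exact ⟨P', hP', hm⟩
    refine ⟨P', hmonic, ?_⟩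
    rw [← Polynomial.eval_map, hP', Polynomial.eval_map]
    exact hPa
  have : Algebra.IsIntegral O G.A := ⟨hint⟩
  have hmax : ∀ I : Ideal G.A, I.IsMaximal → I.comap (algebraMap O G.A) = IsLocalRing.maximalIdeal O :=
    fun I hI => IsLocalRing.eq_maximalIdeal (Ideal.isMaximal_comap_of_isIntegral_of_isMaximal I)
  refine ⟨?_, hmax⟩
  by_cases hne : {I : Ideal G.A | I.IsMaximal}.Nonempty
  · obtain ⟨u, hu⟩ := hne
    have hu : u.IsMaximal := hu
    refine ((G.finite_fibre u).image fun r => r.comap G.τ.hom).subset fun I hI => ?_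
    have hI : I.IsMaximal := hI
    obtain ⟨r, hr, hrI, hru⟩ := (G.exists_arrow_iff (u₀ := I) (u₁ := u)).2 (by
      ext ⟨c, hc⟩
      obtain ⟨o, rfl⟩ := (hrange c).1 hc
      simp only [Ideal.mem_comap, Subring.coe_subtype]
      rw [← Ideal.mem_comap, hmax I hI, ← hmax u hu, Ideal.mem_comap])
    exact ⟨r, ⟨hr, hru⟩, hrI⟩
  · rw [Set.not_nonempty_iff_eq_empty.1 hne]; exact Set.finite_empty

/-- **The split structure over local invariants.** -/
theorem exists_basis_of_local [IsLocalRing O] [Infinite (IsLocalRing.ResidueField O)]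
    (hrange : ∀ a, a ∈ G.inv ↔ a ∈ Set.range (algebraMap O G.A))
    (hinj : Function.Injective (algebraMap O G.A))
    (hspan : ∀ b, b ∈ (letI := G.σ.hom.toAlgebra; Submodule.span G.A (Set.range G.τ.hom))) :
    ∃ (d : ℕ) (e : Fin d → G.A),
      (Function.Bijective fun c : Fin d → O => ∑ i, algebraMap O G.A (c i) * e i) ∧
      (Function.Bijective fun l : Fin d → G.A => ∑ i, G.σ.hom (l i) * G.τ.hom (e i)) := by
  classical
  letI := G.σ.hom.toAlgebra
  have hspan : ∀ b : G.B, b ∈ Submodule.span G.A (Set.range G.τ.hom) := hspan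
  have : Module.Finite G.A G.B := G.D.finite
  have : Module.Projective G.A G.B := G.D.projective
  obtain ⟨hfin, hmax⟩ := G.finite_maximalIdeals hrange hinj
  have : Nontrivial G.A := hinj.nontrivial
  have : Finite (MaximalSpectrum G.A) := by
    have := hfin.to_subtype
    exact Finite.of_injective (fun P : MaximalSpectrum G.A =>
      (⟨P.1, P.2⟩ : {I : Ideal G.A | I.IsMaximal})) fun P Q h => MaximalSpectrum.ext (congrArg Subtype.val h)
  obtain ⟨P₀, hP₀⟩ := Ideal.exists_maximal G.A
  let d := Module.finrank (G.A ⧸ P₀) ((G.A ⧸ P₀) ⊗[G.A] G.B)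
  obtain ⟨c, hc⟩ := (hrange _).1 (G.rankPoly_coeff_mem_inv d)
  have hrk : ∀ P : MaximalSpectrum G.A,
      Module.finrank (G.A ⧸ P.1) ((G.A ⧸ P.1) ⊗[G.A] G.B) = d := by
    intro P
    by_contra hne
    have h0 := congrArg (fun p => Polynomial.coeff p d) (G.map_rankPoly P₀)
    have h1 := congrArg (fun p => Polynomial.coeff p d) (G.map_rankPoly P.1)
    simp only [Polynomial.coeff_map, Polynomial.coeff_X_pow] at h0 h1
    rw [if_pos rfl] at h0
    rw [if_neg (Ne.symm hne), ← hc, Ideal.Quotient.eq_zero_iff_mem, ← Ideal.mem_comap,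
      hmax _ P.2, ← hmax _ hP₀, Ideal.mem_comap, hc, ← Ideal.Quotient.eq_zero_iff_mem, h0] at h1
    exact one_ne_zero h1
  obtain ⟨b⟩ := Module.nonempty_basis_of_flat_of_finrank_eq G.A G.B d hrk
  have hστ : ∀ o : O, G.τ.hom (algebraMap O G.A o) = G.σ.hom (algebraMap O G.A o) := fun o =>
    (G.mem_inv.1 ((hrange _).2 ⟨o, rfl⟩)).symm
  let L : G.A →ₗ[O] (Fin d → G.A) :=
    { toFun := fun a => b.equivFun (G.τ.hom a)
      map_add' := fun x y => by rw [map_add, map_add]
      map_smul' := fun o a => by
        rw [Algebra.smul_def o a, map_mul, hστ,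
          show G.σ.hom (algebraMap O G.A o) * G.τ.hom a = algebraMap O G.A o • G.τ.hom a from rfl,
          map_smul, RingHom.id_apply]
        exact (IsScalarTower.algebraMap_smul G.A o _) }
  have hL : Submodule.span G.A (LinearMap.range L : Set (Fin d → G.A)) = ⊤ := by
    rw [eq_top_iff]
    intro v _
    have h := Submodule.mem_map_of_mem (f := b.equivFun.toLinearMap) (hspan (b.equivFun.symm v))
    rw [Submodule.map_span, LinearEquiv.coe_coe, LinearEquiv.apply_symm_apply, ← Set.range_comp] at h
    exact h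
  obtain ⟨x, hx, hdet⟩ := Groth.GitQuot.Semilocal.exists_isUnit_det (O := O) (B := G.A) hfin
    (LinearMap.range L) hL
  choose e he using hx
  have hbij : Function.Bijective fun l : Fin d → G.A => ∑ i, G.σ.hom (l i) * G.τ.hom (e i) := by
    have hv : Function.Bijective fun l : Fin d → G.A => l ᵥ* Matrix.of x :=
      ⟨Function.LeftInverse.injective (g := fun l => l ᵥ* (Matrix.of x)⁻¹) fun l => by
          simp only [Matrix.vecMul_vecMul, Matrix.mul_nonsing_inv _ hdet, Matrix.vecMul_one],
        Function.RightInverse.surjective (g := fun l => l ᵥ* (Matrix.of x)⁻¹) fun l => by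
          simp only [Matrix.vecMul_vecMul, Matrix.nonsing_inv_mul _ hdet, Matrix.vecMul_one]⟩
    have heq : (fun l : Fin d → G.A => ∑ i, G.σ.hom (l i) * G.τ.hom (e i)) =
        b.equivFun.symm ∘ fun l => l ᵥ* Matrix.of x := by
      funext l
      apply b.equivFun.injective
      rw [Function.comp_apply, LinearEquiv.apply_symm_apply, map_sum]
      funext k
      rw [Finset.sum_apply]
      simp only [Matrix.vecMul, dotProduct, Matrix.of_apply]
      refine Finset.sum_congr rfl fun i _ => ?_
      rw [show G.σ.hom (l i) * G.τ.hom (e i) = l i • G.τ.hom (e i) from rfl, map_smul,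
        ← show L (e i) = x i from he i]
      rfl
    rw [heq]
    exact b.equivFun.symm.bijective.comp hv
  refine ⟨d, e, ⟨fun u v huv => ?_, fun a => ?_⟩, hbij⟩
  · -- independence over `O`
    have h := congrArg G.τ.hom huv
    simp only [map_sum, map_mul, hστ] at h
    funext i
    exact hinj (congrFun (hbij.1 (a₁ := fun i => algebraMap O G.A (u i))
      (a₂ := fun i => algebraMap O G.A (v i)) h) i)
  · -- coordinates are invariant
    obtain ⟨l, hl⟩ := hbij.2 (G.τ.hom a)
    simp only at hl
    let b' : Module.Basis (Fin d) G.A G.B :=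
      Module.Basis.ofEquivFun (LinearEquiv.ofBijective
        (Fintype.linearCombination G.A fun i => G.τ.hom (e i)) (by
          convert hbij using 1
          funext l
          simp only [Fintype.linearCombination_apply]
          rfl)).symm
    have hb' : ∀ i, b' i = G.τ.hom (e i) := fun i => by
      simp [b', Fintype.linearCombination_apply, Pi.single_apply]
    have hinvl : ∀ i, l i ∈ G.inv := by
      have h1 := congrArg G.p₁.hom hl
      have h2 := congrArg G.γ.hom hl
      rw [G.γ_τ_apply, ← h1] at h2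
      simp only [map_sum, map_mul, G.γ_τ_apply, G.γ_σ_apply] at h2
      have hsw : ∀ i, G.p₁.hom (G.σ.hom (l i)) = G.p₂.hom (G.τ.hom (l i)) := fun i =>
        congrArg (fun f : G.A ⟶ G.P => f.hom (l i)) G.sq.w
      simp only [hsw] at h2
      let β : Fin d →₀ G.B := Finsupp.equivFunOnFinite.symm fun i => G.σ.hom (l i) - G.τ.hom (l i)
      have hβ : β = 0 := by
        refine DualSys.eq_zero_of_sum_eq_zero G.sq (fun i => G.τ.hom (e i))
          (fun i => (b'.coord i).toAddMonoidHom) (fun i a y => ?_) (fun i j hij => ?_) (fun i => ?_) β ?_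
        · exact (b'.coord i).map_smul a y
        · change b'.coord i (G.τ.hom (e j)) = 0
          rw [← hb', Module.Basis.coord_apply, Module.Basis.repr_self, Finsupp.single_eq_of_ne hij]
        · change b'.coord i (G.τ.hom (e i)) = 1
          rw [← hb', Module.Basis.coord_apply, Module.Basis.repr_self, Finsupp.single_eq_same]
        · rw [Finsupp.sum_fintype _ _ (fun i => by simp)]
          simp only [β, Finsupp.coe_equivFunOnFinite_symm, map_sub, sub_mul, Finset.sum_sub_distrib]
          exact sub_eq_zero.2 h2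
      intro i
      rw [mem_inv, ← sub_eq_zero]
      exact DFunLike.congr_fun hβ i
    choose u hu using fun i => (hrange _).1 (hinvl i)
    refine ⟨u, ?_⟩
    have h := congrArg G.ε.hom hl
    simp only [map_sum, map_mul, ε_σ, ε_τ] at h
    simpa [hu] using h

end Local

end Groth.AffGpd
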