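import Mathlib
import Groth.Agent.GitQuot.AffGpd.FlatBC
import Groth.Agent.GitQuot.AffGpd.MonoLocal

/-!
# Affine finite locally free equivalence relations: the objects are finite locally free over invariants
-/

set_option autoImplicit false

universe u

open CategoryTheory CategoryTheory.Limits TensorProduct

noncomputable section

namespace Groth.AffGpd

variable (G : AffGpd.{u}) {C : Type u} [CommRing C] [Algebra C G.A] [Algebra C G.B]
  (hB : ∀ c, algebraMap C G.B c = G.σ.hom (algebraMap C G.A c))
  (hinj : Function.Injective (algebraMap C G.A))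
  (hrange : ∀ a, a ∈ G.inv ↔ a ∈ Set.range (algebraMap C G.A))
  (hspan : ∀ b, b ∈ (letI := G.σ.hom.toAlgebra; Submodule.span G.A (Set.range G.τ.hom)))

/-- The pair of source and target on functions, over `C`. -/
def pair : G.A ⊗[C] G.A →ₐ[C] G.B :=
  Algebra.TensorProduct.productMap (G.σAlg hB) (G.τAlg hB hrange)

theorem pair_tmul (a a' : G.A) : G.pair hB hrange (a ⊗ₜ a') = G.σ.hom a * G.τ.hom a' := rfl

include hinj hspan in
theorem local_structure (q : Ideal C) [q.IsMaximal] :
    Module.Flat C (TestRing q ⊗[C] G.A) ∧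
      Function.Injective ((G.pair hB hrange).toLinearMap.lTensor (TestRing q)) := by
  let C' := TestRing q
  let H := G.bc hrange C'
  let ι := CommRingCat.ofHom (algebraMap C G.A)
  let j := CommRingCat.ofHom (algebraMap C C')
  letI algH : Algebra C' H.A := (G.bcC ι (G.hι hrange) j).hom.toAlgebra
  obtain ⟨hinj', hrange'⟩ := G.bc_inv (C' := C') hB hinj hrange
  have hspanH : ∀ b, b ∈ (letI := H.σ.hom.toAlgebra; Submodule.span H.A (Set.range H.τ.hom)) := by
    intro b
    letI := H.σ.hom.toAlgebra
    letI := G.σ.hom.toAlgebra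
    have hspan : ∀ b : G.B, b ∈ Submodule.span G.A (Set.range G.τ.hom) := hspan
    have hinl : ∀ y : G.B, (G.bcB ι (G.hι hrange) j).hom y ∈ Submodule.span H.A (Set.range H.τ.hom) := by
      intro y
      induction hspan y using Submodule.span_induction with
      | mem x hx =>
        obtain ⟨a, rfl⟩ := hx
        exact Submodule.subset_span ⟨(G.bcA ι (G.hι hrange) j).hom a, G.τ_inl ι (G.hι hrange) j a⟩
      | zero => rw [map_zero]; exact zero_mem _
      | add x y _ _ hx hy => rw [map_add]; exact add_mem hx hy
      | smul a x _ hx =>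
        have e : (G.bcB ι (G.hι hrange) j).hom (a • x) =
            (G.bcA ι (G.hι hrange) j).hom a • (G.bcB ι (G.hι hrange) j).hom x := by
          refine ((G.bcB ι (G.hι hrange) j).hom.map_mul _ _).trans ?_
          rw [← G.σ_inl ι (G.hι hrange) j a]
          rfl
        rw [e]
        exact Submodule.smul_mem _ _ hx
    obtain ⟨z, rfl⟩ := (G.eB (C' := C') hB hrange).surjective b
    induction z using TensorProduct.induction_on with
    | zero => rw [map_zero]; exact zero_mem _
    | add s t hs ht => rw [map_add]; exact add_mem hs ht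
    | tmul c y =>
      rw [G.eB_tmul hB hrange, ← G.σ_inr ι (G.hι hrange) j c]
      exact Submodule.smul_mem _ ((G.bcC ι (G.hι hrange) j).hom c) (hinl y)
  obtain ⟨d, e, hb1, hb2⟩ := H.exists_basis_of_local (O := C') hrange' hinj' hspanH
  let pe := pushEquiv (C := C) (C' := C') (X := G.A)
  let ê : Fin d → C' ⊗[C] G.A := fun i => pe.symm (e i)
  let Λ : (Fin d → C') →ₗ[C'] C' ⊗[C] G.A := Fintype.linearCombination C' ê
  have hΛ : ∀ k, pe (Λ k) = ∑ i, algebraMap C' H.A (k i) * e i := by
    intro k
    rw [Fintype.linearCombination_apply, map_sum]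
    refine Finset.sum_congr rfl fun i _ => ?_
    rw [show k i • ê i = algebraMap C' (C' ⊗[C] G.A) (k i) * ê i from Algebra.smul_def (k i) (ê i),
      map_mul, Algebra.TensorProduct.algebraMap_apply, Algebra.algebraMap_self_apply,
      RingEquiv.apply_symm_apply]
    congr 1
    exact pushEquiv_left (C := C) (X := G.A) (k i)
  have hΛbij : Function.Bijective Λ := by
    refine ⟨fun k k' h => hb1.1 ?_, fun z => ?_⟩
    · exact (hΛ k).symm.trans ((congrArg pe h).trans (hΛ k'))
    · obtain ⟨k, hk⟩ := hb1.2 (pe z)
      exact ⟨k, pe.injective ((hΛ k).trans hk)⟩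
  refine ⟨?_, ?_⟩
  · have : Module.Flat C' (C' ⊗[C] G.A) := Module.Flat.of_linearEquiv (LinearEquiv.ofBijective Λ hΛbij).symm
    exact Module.Flat.trans C C' _
  · let Φ : C' ⊗[C] (G.A ⊗[C] G.A) →ₐ[C'] C' ⊗[C] G.B :=
      Algebra.TensorProduct.map (AlgHom.id C' C') (G.pair hB hrange)
    have hΦ : ∀ z, (G.pair hB hrange).toLinearMap.lTensor C' z = Φ z := by
      intro z
      induction z using TensorProduct.induction_on with
      | zero => simp
      | add s t hs ht => rw [map_add, map_add, hs, ht]
      | tmul c x => rfl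
    let L : C' ⊗[C] G.A →ₐ[C'] C' ⊗[C] (G.A ⊗[C] G.A) :=
      Algebra.TensorProduct.map (AlgHom.id C' C') Algebra.TensorProduct.includeLeft
    let R : C' ⊗[C] G.A →ₐ[C'] C' ⊗[C] (G.A ⊗[C] G.A) :=
      Algebra.TensorProduct.map (AlgHom.id C' C') Algebra.TensorProduct.includeRight
    let eB := G.eB (C' := C') hB hrange
    have hL : ∀ x, eB (Φ (L x)) = H.σ.hom (pe x) := by
      intro x
      refine Eq.trans ?_ (G.σ_pushEquiv hB hrange x).symm
      congr 1
      induction x using TensorProduct.induction_on with
      | zero => simp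
      | add s t hs ht => simp only [map_add, hs, ht]
      | tmul c a => simp [Φ, L, σAlg, pair_tmul]
    have hR : ∀ x, eB (Φ (R x)) = H.τ.hom (pe x) := by
      intro x
      refine Eq.trans ?_ (G.τ_pushEquiv hB hrange x).symm
      congr 1
      induction x using TensorProduct.induction_on with
      | zero => simp
      | add s t hs ht => simp only [map_add, hs, ht]
      | tmul c a => simp [Φ, R, τAlg, pair_tmul]
    have hgen : ∀ z : C' ⊗[C] (G.A ⊗[C] G.A), ∃ μ : Fin d → C' ⊗[C] G.A,
        z = ∑ i, L (μ i) * R (ê i) := by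
      intro z
      induction z using TensorProduct.induction_on with
      | zero => exact ⟨0, by simp⟩
      | add s t hs ht =>
        obtain ⟨μ, rfl⟩ := hs
        obtain ⟨μ', rfl⟩ := ht
        exact ⟨μ + μ', by simp [add_mul, Finset.sum_add_distrib]⟩
      | tmul c w =>
        induction w using TensorProduct.induction_on with
        | zero => exact ⟨0, by simp⟩
        | add s t hs ht =>
          obtain ⟨μ, hμ⟩ := hs
          obtain ⟨μ', hμ'⟩ := ht
          exact ⟨μ + μ', by rw [TensorProduct.tmul_add, hμ, hμ']; simp [add_mul, Finset.sum_add_distrib]⟩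
        | tmul a a' =>
          obtain ⟨k, hk⟩ := hΛbij.2 ((1 : C') ⊗ₜ a')
          refine ⟨fun i => k i • (c ⊗ₜ a), ?_⟩
          have e1 : (c ⊗ₜ[C] (a ⊗ₜ[C] a')) = L (c ⊗ₜ a) * R ((1 : C') ⊗ₜ a') := by simp [L, R]
          rw [e1, ← hk, Fintype.linearCombination_apply, map_sum, Finset.mul_sum]
          refine Finset.sum_congr rfl fun i _ => ?_
          rw [map_smul, map_smul, mul_smul_comm, smul_mul_assoc]
    rw [injective_iff_map_eq_zero]
    intro z hz
    rw [hΦ] at hz
    obtain ⟨μ, rfl⟩ := hgen z
    have h0 := congrArg eB hz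
    simp only [map_sum, map_mul, hL, hR, map_zero] at h0
    have hμ : ∀ i, pe (μ i) = 0 := congrFun (hb2.1 (a₁ := fun i => pe (μ i)) (a₂ := 0) (by
      simp only [Pi.zero_apply, map_zero, zero_mul, Finset.sum_const_zero]
      simpa [ê] using h0))
    refine Finset.sum_eq_zero fun i _ => ?_
    rw [pe.injective ((hμ i).trans (map_zero pe).symm), map_zero, zero_mul]

include hspan in
theorem pair_surjective : Function.Surjective (G.pair hB hrange) := by
  intro b
  letI := G.σ.hom.toAlgebra
  have hspan : ∀ b : G.B, b ∈ Submodule.span G.A (Set.range G.τ.hom) := hspan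
  induction hspan b using Submodule.span_induction with
  | mem x hx => obtain ⟨a, rfl⟩ := hx; exact ⟨1 ⊗ₜ a, by simp [pair_tmul]⟩
  | zero => exact ⟨0, map_zero _⟩
  | add x y _ _ hx hy =>
    obtain ⟨u, rfl⟩ := hx; obtain ⟨v, rfl⟩ := hy; exact ⟨u + v, map_add _ _ _⟩
  | smul a x _ hx =>
    obtain ⟨u, rfl⟩ := hx
    exact ⟨(a ⊗ₜ 1) * u, by rw [map_mul, pair_tmul, map_one, mul_one]; rfl⟩

include hinj hspan hB hrange in
theorem flat_objects : Module.Flat C G.A := by
  rw [Module.Flat.iff_lTensor_injective']
  intro I
  refine injective_of_lTensor _ fun q _ => ?_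
  have := (G.local_structure hB hinj hrange hspan q).1
  have key := Module.Flat.lTensor_preserves_injective_linearMap (M := TestRing q ⊗[C] G.A)
    I.subtype I.injective_subtype
  have e : (I.subtype.lTensor G.A).lTensor (TestRing q) =
      (TensorProduct.assoc C _ _ _).toLinearMap ∘ₗ I.subtype.lTensor (TestRing q ⊗[C] G.A) ∘ₗ
        (TensorProduct.assoc C _ _ _).symm.toLinearMap := by
    ext; simp
  rw [e]
  exact (TensorProduct.assoc C (TestRing q) G.A C).injective.comp
    (key.comp (TensorProduct.assoc C (TestRing q) G.A I).symm.injective)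

include hinj hspan in
theorem pair_bijective : Function.Bijective (G.pair hB hrange) :=
  ⟨injective_of_lTensor (G.pair hB hrange).toLinearMap fun q _ =>
    (G.local_structure hB hinj hrange hspan q).2, G.pair_surjective hB hrange hspan⟩

include hinj hspan hB hrange in
theorem faithfullyFlat_objects : Module.FaithfullyFlat C G.A := by
  have := G.flat_objects hB hinj hrange hspan
  refine Module.FaithfullyFlat.of_comap_surjective fun P => ?_
  have hint : Algebra.IsIntegral C G.A := ⟨fun a => by
    obtain ⟨Q, hQ, hQa⟩ := G.isIntegral.isIntegral a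
    rcases subsingleton_or_nontrivial G.A with hs | hs
    · exact ⟨Polynomial.X, Polynomial.monic_X, Subsingleton.elim _ _⟩
    have hl : Q.map G.inv.subtype ∈ Polynomial.lifts (algebraMap C G.A) := by
      rw [Polynomial.lifts_iff_coeff_lifts]
      intro k
      rw [Polynomial.coeff_map]
      exact (hrange _).1 (Q.coeff k).2
    obtain ⟨Q', hQ', -, hm⟩ := Polynomial.lifts_and_degree_eq_and_monic hl (hQ.map _)
    refine ⟨Q', hm, ?_⟩
    rw [← Polynomial.eval_map, hQ', Polynomial.eval_map]
    exact hQa⟩
  have : FaithfulSMul C G.A := (faithfulSMul_iff_algebraMap_injective C G.A).2 hinj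
  exact Algebra.IsIntegral.comap_surjective C G.A P

include hinj hspan hB hrange in
theorem finite_finitePresentation_objects :
    Module.Finite C G.A ∧ Algebra.FinitePresentation C G.A := by
  have := G.faithfullyFlat_objects hB hinj hrange hspan
  letI := G.σ.hom.toAlgebra
  have : IsScalarTower C G.A G.B := IsScalarTower.of_algebraMap_eq hB
  have : Module.Finite G.A G.B := G.D.finite
  have : Module.Projective G.A G.B := G.D.projective
  let ψ : G.A ⊗[C] G.A →ₐ[G.A] G.B :=
    { (G.pair hB hrange).toRingHom with
      commutes' := fun a => by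
        change G.pair hB hrange (algebraMap G.A (G.A ⊗[C] G.A) a) = G.σ.hom a
        rw [Algebra.TensorProduct.algebraMap_apply, Algebra.algebraMap_self_apply, pair_tmul, map_one, mul_one] }
  let e : G.A ⊗[C] G.A ≃ₐ[G.A] G.B :=
    AlgEquiv.ofBijective ψ (G.pair_bijective hB hinj hrange hspan)
  have : Module.Finite G.A (G.A ⊗[C] G.A) := Module.Finite.equiv e.toLinearEquiv.symm
  have : Module.FinitePresentation G.A G.B := Module.finitePresentation_of_projective _ _
  have : Algebra.FinitePresentation G.A (G.A ⊗[C] G.A) := Algebra.FinitePresentation.equiv e.symm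
  exact ⟨Module.Finite.of_finite_tensorProduct_of_faithfullyFlat G.A,
    Algebra.FinitePresentation.of_finitePresentation_tensorProduct_of_faithfullyFlat G.A⟩

end Groth.AffGpd
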