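import Mathlib
import Groth.Prelude.Def_Grpd
import Groth.Agent.GitQuot.GrpdShear
import Groth.Agent.GitQuot.GrpdAffine
import Groth.Agent.GitQuot.AffGpd.Basic

/-!
# The rings of an affine groupoid scheme
-/

set_option autoImplicit false

universe u

open AlgebraicGeometry CategoryTheory CategoryTheory.Limits

noncomputable section

namespace Groth.AffGpd

variable {S : Scheme.{u}} (G : Grpd.GroupoidScheme S) [IsAffine G.U] [IsAffine G.R]

theorem exists_dualSys_s [IsFinite G.s] [Flat G.s] [LocallyOfFinitePresentation G.s] :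
    ∃ n, Nonempty (DualSys G.s.appTop n) := by
  refine DualSys.exists_of_projective G.s.finite_appTop ?_
  algebraize [G.s.appTop.hom]
  have : Module.Flat Γ(G.U, ⊤) Γ(G.R, ⊤) := G.s.flat_appTop
  have : Module.Finite Γ(G.U, ⊤) Γ(G.R, ⊤) := G.s.finite_appTop
  have hfp : G.s.appTop.hom.FinitePresentation :=
    (HasRingHomProperty.iff_of_isAffine (P := @LocallyOfFinitePresentation)).1 inferInstance
  have : Algebra.FinitePresentation Γ(G.U, ⊤) Γ(G.R, ⊤) := hfp
  have : Module.FinitePresentation Γ(G.U, ⊤) Γ(G.R, ⊤) :=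
    .of_finite_of_finitePresentation _ _
  exact Module.Flat.projective_of_finitePresentation

/-- The rings of an affine groupoid scheme with finite locally free source map. -/
def ofScheme [IsFinite G.s] [Flat G.s] [LocallyOfFinitePresentation G.s] : AffGpd.{u} where
  A := Γ(G.U, ⊤)
  B := Γ(G.R, ⊤)
  P := Γ(pullback G.s G.t, ⊤)
  σ := G.s.appTop
  τ := G.t.appTop
  ε := G.e.appTop
  p₁ := (pullback.fst G.s G.t).appTop
  p₂ := (pullback.snd G.s G.t).appTop
  γ := G.c.appTop
  σ_ε := by rw [← Scheme.Hom.comp_appTop, G.e_s, Scheme.Hom.id_appTop]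
  τ_ε := by rw [← Scheme.Hom.comp_appTop, G.e_t, Scheme.Hom.id_appTop]
  γ_τ := by rw [← Scheme.Hom.comp_appTop, ← Scheme.Hom.comp_appTop, Groth.GrpdBasic.c_t]
  γ_σ := by rw [← Scheme.Hom.comp_appTop, ← Scheme.Hom.comp_appTop, Groth.GrpdBasic.c_s]
  sq := Groth.GrpdBasic.isPushout_appTop G
  sqS := isPushout_appTop_of_isPullback (Groth.GrpdBasic.isPullback_c_snd G)
  n := (exists_dualSys_s G).choose
  D := (exists_dualSys_s G).choose_spec.some

/-- With a basis, the norm of Mathlib is the norm of the groupoid. -/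
theorem norm_eq_det_mat {A B : CommRingCat.{u}} {f : A ⟶ B} {n : ℕ}
    (b : letI := f.hom.toAlgebra; Module.Basis (Fin n) A B) (y : B) :
    letI := f.hom.toAlgebra; Algebra.norm A y = ((DualSys.ofBasis b).mat y).det := by
  letI := f.hom.toAlgebra
  rw [Algebra.norm_eq_matrix_det b]
  congr 1
  ext k l
  rw [Algebra.leftMulMatrix_eq_repr_mul]
  rfl

/-- When the arrows are free over the objects, the norm of `τ a` is invariant. -/
theorem norm_mem_inv (H : AffGpd.{u}) {m : ℕ}
    (b : letI := H.σ.hom.toAlgebra; Module.Basis (Fin m) H.A H.B) (a : H.A) :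
    letI := H.σ.hom.toAlgebra; Algebra.norm H.A (H.τ.hom a) ∈ H.inv := by
  letI := H.σ.hom.toAlgebra
  let H' : AffGpd.{u} := { H with n := m, D := DualSys.ofBasis b }
  have h1 : (DualSys.ofBasis b).mat 1 = 1 := by
    ext k l
    change b.repr (1 * b l) k = _
    rw [one_mul, Module.Basis.repr_self, Matrix.one_apply, Finsupp.single_apply]
    split_ifs <;> simp_all
  have e : Algebra.norm H.A (H.τ.hom a) = H'.N a := by
    rw [norm_eq_det_mat b, H'.N_eq_Nhat]
    change _ = ((DualSys.ofBasis b).mat (H.τ.hom a) + (1 - (DualSys.ofBasis b).mat 1)).det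
    rw [h1, sub_self, add_zero]
  rw [e]
  exact H'.N_mem_inv a

end Groth.AffGpd
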