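import Mathlib
import Groth.Prelude.Def_Grpd
import Groth.Agent.GitQuot.AffGpd.OfScheme
import Groth.Agent.GitQuot.AffGpd.BaseChange

/-!
# `U → Spec (invariants)` on points
-/

set_option autoImplicit false

universe u

open AlgebraicGeometry CategoryTheory CategoryTheory.Limits

noncomputable section

namespace Groth.AffGpd

theorem toSpecΓ_bijective (X : Scheme.{u}) [IsAffine X] : Function.Bijective ⇑X.toSpecΓ :=
  (Scheme.homeoOfIso X.isoSpec).bijective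

theorem toSpecΓ_apply {X Y : Scheme.{u}} (f : X ⟶ Y) (x : X) :
    Y.toSpecΓ (f x) = Spec.map f.appTop (X.toSpecΓ x) := by
  rw [← Scheme.Hom.comp_apply, Scheme.toSpecΓ_naturality, Scheme.Hom.comp_apply]

variable {S : Scheme.{u}} (G : Grpd.GroupoidScheme S) [IsAffine G.U] [IsAffine G.R]
  [IsFinite G.s] [Flat G.s] [LocallyOfFinitePresentation G.s]

theorem toQuot_surjective : Function.Surjective ⇑G.toQuot := by
  intro q
  obtain ⟨p, hp⟩ := (ofScheme G).comap_surjective q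
  obtain ⟨u, hu⟩ := (toSpecΓ_bijective G.U).2 p
  refine ⟨u, ?_⟩
  rw [Grpd.GroupoidScheme.toQuot, Scheme.Hom.comp_apply, hu]
  exact hp

theorem toQuot_eq_iff (u₀ u₁ : G.U) :
    G.toQuot u₀ = G.toQuot u₁ ↔ ∃ r : G.R, G.t r = u₀ ∧ G.s r = u₁ := by
  let p₀ : PrimeSpectrum Γ(G.U, ⊤) := G.U.toSpecΓ u₀
  let p₁ : PrimeSpectrum Γ(G.U, ⊤) := G.U.toSpecΓ u₁
  have : p₀.asIdeal.IsPrime := p₀.isPrime
  have : p₁.asIdeal.IsPrime := p₁.isPrime
  have h := @exists_arrow_iff (ofScheme G) p₀.asIdeal p₁.asIdeal p₀.isPrime p₁.isPrime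
  constructor
  · intro e
    have e' := congrArg PrimeSpectrum.asIdeal e
    obtain ⟨r, hr, h0, h1⟩ := h.2 e'
    obtain ⟨x, hx⟩ := (toSpecΓ_bijective G.R).2 ⟨r, hr⟩
    refine ⟨x, (toSpecΓ_bijective G.U).1 ?_, (toSpecΓ_bijective G.U).1 ?_⟩
    · rw [toSpecΓ_apply, hx]; exact PrimeSpectrum.ext h0
    · rw [toSpecΓ_apply, hx]; exact PrimeSpectrum.ext h1
  · rintro ⟨x, rfl, rfl⟩
    refine PrimeSpectrum.ext (h.1 ⟨(G.R.toSpecΓ x).asIdeal, (G.R.toSpecΓ x).isPrime, ?_, ?_⟩)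
    · exact (congrArg PrimeSpectrum.asIdeal (toSpecΓ_apply G.t x)).symm
    · exact (congrArg PrimeSpectrum.asIdeal (toSpecΓ_apply G.s x)).symm

theorem toSpecΓ_appTop_ext {X Y : Scheme.{u}} [IsAffine Y] {f g : X ⟶ Y}
    (h : f.appTop = g.appTop) : f = g := ext_of_isAffine h

theorem exists_point_lift (k : Type u) [Field k] [IsAlgClosed k]
    (m : Spec (CommRingCat.of k) ⟶ Spec (CommRingCat.of G.invariants)) :
    ∃ x : Spec (CommRingCat.of k) ⟶ G.U, x ≫ G.toQuot = m := by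
  obtain ⟨μ, rfl⟩ := Spec.map_surjective m
  obtain ⟨φ, hφ⟩ := (ofScheme G).exists_lift_field μ.hom
  refine ⟨Spec.map (CommRingCat.ofHom (R := Γ(G.U, ⊤)) φ) ≫ G.U.isoSpec.inv, ?_⟩
  rw [Grpd.GroupoidScheme.toQuot, Category.assoc, ← Category.assoc G.U.isoSpec.inv,
    show G.U.isoSpec.inv ≫ G.U.toSpecΓ = 𝟙 _ from G.U.isoSpec.inv_hom_id, Category.id_comp, ← Spec.map_comp]
  congr 1
  exact CommRingCat.hom_ext hφ

theorem point_eq_iff (k : Type u) [Field k] [IsAlgClosed k]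
    (x₀ x₁ : Spec (CommRingCat.of k) ⟶ G.U) :
    x₀ ≫ G.toQuot = x₁ ≫ G.toQuot ↔
      ∃ r : Spec (CommRingCat.of k) ⟶ G.R, r ≫ G.t = x₀ ∧ r ≫ G.s = x₁ := by
  obtain ⟨φ₀, h₀⟩ := Spec.map_surjective (x₀ ≫ G.U.toSpecΓ)
  obtain ⟨φ₁, h₁⟩ := Spec.map_surjective (x₁ ≫ G.U.toSpecΓ)
  have hU : ∀ (x y : Spec (CommRingCat.of k) ⟶ G.U), x ≫ G.U.toSpecΓ = y ≫ G.U.toSpecΓ → x = y :=
    fun x y h => (cancel_mono G.U.isoSpec.hom).1 h
  constructor
  · intro e
    rw [Grpd.GroupoidScheme.toQuot, ← Category.assoc, ← Category.assoc, ← h₀, ← h₁, ← Spec.map_comp,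
      ← Spec.map_comp] at e
    have e' := Spec.map_injective e
    obtain ⟨ρ, ht, hs⟩ := (ofScheme G).exists_arrow_field φ₀.hom φ₁.hom fun a ha =>
      congrArg (fun f : CommRingCat.of G.invariants ⟶ CommRingCat.of k => f.hom ⟨a, ha⟩) e'
    refine ⟨Spec.map (CommRingCat.ofHom (R := Γ(G.R, ⊤)) ρ) ≫ G.R.isoSpec.inv, hU _ _ ?_, hU _ _ ?_⟩
    · rw [Category.assoc, Category.assoc, Scheme.toSpecΓ_naturality, ← Category.assoc G.R.isoSpec.inv,
        show G.R.isoSpec.inv ≫ G.R.toSpecΓ = 𝟙 _ from G.R.isoSpec.inv_hom_id, Category.id_comp,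
        ← Spec.map_comp, ← h₀]
      congr 1
      exact CommRingCat.hom_ext ht
    · rw [Category.assoc, Category.assoc, Scheme.toSpecΓ_naturality, ← Category.assoc G.R.isoSpec.inv,
        show G.R.isoSpec.inv ≫ G.R.toSpecΓ = 𝟙 _ from G.R.isoSpec.inv_hom_id, Category.id_comp,
        ← Spec.map_comp, ← h₁]
      congr 1
      exact CommRingCat.hom_ext hs
  · rintro ⟨r, rfl, rfl⟩
    rw [Category.assoc, Category.assoc]
    congr 1
    have hinv : ∀ x : G.invariants, G.t.appTop.hom x = G.s.appTop.hom x := fun x => x.2.symm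
    rw [Grpd.GroupoidScheme.toQuot, ← Category.assoc, ← Category.assoc, Scheme.toSpecΓ_naturality,
      Scheme.toSpecΓ_naturality, Category.assoc, Category.assoc, ← Spec.map_comp, ← Spec.map_comp]
    congr 2
    exact CommRingCat.hom_ext (RingHom.ext hinv)

end Groth.AffGpd
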