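import Mathlib
import Groth.Prelude.Def_Grpd
import Groth.Agent.GitQuot.AffGpd.Points
import Groth.Agent.GitQuot.IsQuot

/-!
# `U → Spec (invariants)` is a geometric quotient
-/

set_option autoImplicit false

universe u

open AlgebraicGeometry CategoryTheory CategoryTheory.Limits

noncomputable section

namespace Groth.AffGpd

section Ring

variable {A B : Type u} [CommRing A] [CommRing B] (σ τ : A →+* B) (h : RingHom.eqLocus σ τ)

/-- The localized inclusion of invariants. -/
def locIncl : Localization.Away h →+* Localization.Away (h : A) :=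
  IsLocalization.Away.lift h (g := (algebraMap A (Localization.Away (h : A))).comp (RingHom.eqLocus σ τ).subtype)
    (IsLocalization.Away.algebraMap_isUnit (h : A))

theorem locIncl_algebraMap (c : RingHom.eqLocus σ τ) :
    locIncl σ τ h (algebraMap _ _ c) = algebraMap A (Localization.Away (h : A)) c :=
  IsLocalization.Away.lift_eq h _ c

theorem locIncl_injective : Function.Injective (locIncl σ τ h) := by
  rw [injective_iff_map_eq_zero]
  intro x hx
  obtain ⟨⟨c, ⟨_, k, rfl⟩⟩, hc⟩ := IsLocalization.surj (Submonoid.powers h) x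
  have h0 := congrArg (locIncl σ τ h) hc
  rw [map_mul, hx, zero_mul, locIncl_algebraMap] at h0
  obtain ⟨⟨_, N, rfl⟩, hN⟩ := (IsLocalization.map_eq_zero_iff (Submonoid.powers (h : A)) _ _).1 h0.symm
  have hc0 : algebraMap (RingHom.eqLocus σ τ) (Localization.Away h) c = 0 :=
    (IsLocalization.map_eq_zero_iff (Submonoid.powers h) _ _).2 ⟨⟨_, N, rfl⟩, Subtype.ext hN⟩
  rw [hc0] at hc
  exact ((IsLocalization.map_units (Localization.Away h) (⟨h ^ k, k, rfl⟩ : Submonoid.powers h)).mul_left_eq_zero).1 hc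

/-- The target map on localisations. -/
def locTgt : Localization.Away (h : A) →+* Localization.Away (σ h) :=
  IsLocalization.Away.lift (h : A) (g := (algebraMap B (Localization.Away (σ h))).comp τ) (by
    rw [RingHom.comp_apply, ← show σ h = τ h from h.2]
    exact IsLocalization.Away.algebraMap_isUnit _)

/-- The source map on localisations. -/
def locSrc : Localization.Away (h : A) →+* Localization.Away (σ h) :=
  IsLocalization.Away.lift (h : A) (g := (algebraMap B (Localization.Away (σ h))).comp σ)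
    (IsLocalization.Away.algebraMap_isUnit (σ h))

theorem locTgt_algebraMap (a : A) : locTgt σ τ h (algebraMap _ _ a) = algebraMap _ _ (τ a) :=
  IsLocalization.Away.lift_eq (h : A) _ a

theorem locSrc_algebraMap (a : A) : locSrc σ τ h (algebraMap _ _ a) = algebraMap _ _ (σ a) :=
  IsLocalization.Away.lift_eq (h : A) _ a

theorem mem_range_locIncl {x : Localization.Away (h : A)}
    (hx : locTgt σ τ h x = locSrc σ τ h x) : x ∈ (locIncl σ τ h).range := by
  obtain ⟨⟨a, ⟨_, k, rfl⟩⟩, ha⟩ := IsLocalization.surj (Submonoid.powers (h : A)) x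
  have h1 := congrArg (locTgt σ τ h) ha
  have h2 := congrArg (locSrc σ τ h) ha
  rw [map_mul, locTgt_algebraMap, locTgt_algebraMap, map_pow, ← show σ h = τ h from h.2, hx] at h1
  rw [map_mul, locSrc_algebraMap, locSrc_algebraMap, map_pow] at h2
  obtain ⟨⟨_, N, rfl⟩, hN⟩ :=
    (IsLocalization.eq_iff_exists (Submonoid.powers (σ h)) _).1 (h2.symm.trans h1)
  have hc : (h : A) ^ N * a ∈ RingHom.eqLocus σ τ := by
    change σ _ = τ _
    rw [map_mul, map_mul, map_pow, map_pow, ← show σ h = τ h from h.2]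
    exact hN
  refine ⟨IsLocalization.mk' _ (⟨_, hc⟩ : RingHom.eqLocus σ τ) (⟨h ^ (N + k), N + k, rfl⟩ : Submonoid.powers h), ?_⟩
  have hu := IsLocalization.map_units (Localization.Away (h : A))
    (⟨(h : A) ^ (N + k), N + k, rfl⟩ : Submonoid.powers (h : A))
  refine hu.mul_left_injective ?_
  change _ * algebraMap A _ ((h : A) ^ (N + k)) = _ * algebraMap A _ ((h : A) ^ (N + k))
  rw [show algebraMap A (Localization.Away (h : A)) ((h : A) ^ (N + k)) =
      locIncl σ τ h (algebraMap _ _ (h ^ (N + k))) by rw [locIncl_algebraMap]; rfl,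
    ← map_mul, IsLocalization.mk'_spec, locIncl_algebraMap, locIncl_algebraMap,
    show (((h ^ (N + k) : RingHom.eqLocus σ τ)) : A) = (h : A) ^ N * (h : A) ^ k from pow_add _ _ _,
    map_mul, map_mul, mul_comm x, mul_assoc, mul_comm (algebraMap A _ ((h : A) ^ k)) x, ha]

end Ring

variable {S : Scheme.{u}} (G : Grpd.GroupoidScheme S) [IsAffine G.U] [IsAffine G.R]
  [IsFinite G.s] [Flat G.s] [LocallyOfFinitePresentation G.s]

omit [IsAffine G.U] [IsAffine G.R] [IsFinite G.s] [Flat G.s] [LocallyOfFinitePresentation G.s] in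
theorem t_toQuot : G.t ≫ G.toQuot = G.s ≫ G.toQuot := by
  rw [Grpd.GroupoidScheme.toQuot, ← Category.assoc, ← Category.assoc, Scheme.toSpecΓ_naturality,
    Scheme.toSpecΓ_naturality, Category.assoc, Category.assoc, ← Spec.map_comp, ← Spec.map_comp]
  congr 2
  exact CommRingCat.hom_ext (RingHom.ext fun x : G.invariants => x.2.symm)

theorem isOpenMap_toQuot : IsOpenMap ⇑G.toQuot := by
  rw [Grpd.GroupoidScheme.toQuot, show ⇑(G.U.toSpecΓ ≫ Spec.map (CommRingCat.ofHom G.invariants.subtype)) =
    ⇑(Spec.map (CommRingCat.ofHom G.invariants.subtype)) ∘ ⇑G.U.toSpecΓ from funext fun x => Scheme.Hom.comp_apply _ _ x]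
  exact ((ofScheme G).isOpenMap_comap).comp (Scheme.homeoOfIso G.U.isoSpec).isOpenMap

/-- **The affine quotient.** -/
theorem isQuot_toQuot : Groth.Quot.IsQuot G.s G.t G.toQuot where
  w := t_toQuot G
  surj := toQuot_surjective G
  isOpen := isOpenMap_toQuot G
  fibre u v e := (toQuot_eq_iff G u v).1 e
  basis V hV y hy := by
    obtain ⟨_, ⟨h, rfl⟩, hyh, hsub⟩ :=
      PrimeSpectrum.isTopologicalBasis_basic_opens.exists_subset_of_mem_open hy hV
    let σ : Γ(G.U, ⊤) →+* Γ(G.R, ⊤) := G.s.appTop.hom
    let τ : Γ(G.U, ⊤) →+* Γ(G.R, ⊤) := G.t.appTop.hom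
    let h' : RingHom.eqLocus σ τ := h
    let A' := Localization.Away (h' : Γ(G.U, ⊤))
    let B' := Localization.Away (σ h')
    let C' := Localization.Away h'
    let aA : Γ(G.U, ⊤) ⟶ CommRingCat.of A' := CommRingCat.ofHom (algebraMap _ _)
    let aC₀ : CommRingCat.of (RingHom.eqLocus σ τ) ⟶ CommRingCat.of C' := CommRingCat.ofHom (algebraMap _ _)
    let aC : CommRingCat.of G.invariants ⟶ CommRingCat.of C' := aC₀
    let aB : Γ(G.R, ⊤) ⟶ CommRingCat.of B' := CommRingCat.ofHom (algebraMap _ _)
    let qh : CommRingCat.of C' ⟶ CommRingCat.of A' := CommRingCat.ofHom (locIncl σ τ h')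
    have : IsOpenImmersion (Spec.map aA) := IsOpenImmersion.of_isLocalization (h' : Γ(G.U, ⊤))
    have : IsOpenImmersion (Spec.map aC₀) := IsOpenImmersion.of_isLocalization h'
    have : IsOpenImmersion (Spec.map aC) := this
    let jU : Spec (CommRingCat.of A') ⟶ G.U := Spec.map aA ≫ G.U.isoSpec.inv
    let jY : Spec (CommRingCat.of C') ⟶ Spec (CommRingCat.of G.invariants) := Spec.map aC
    have hwq : aC ≫ qh = CommRingCat.ofHom G.invariants.subtype ≫ aA :=
      CommRingCat.hom_ext (RingHom.ext fun c => locIncl_algebraMap σ τ h' c)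
    have hw : Spec.map qh ≫ jY = jU ≫ G.toQuot := by
      rw [Grpd.GroupoidScheme.toQuot, Category.assoc, ← Category.assoc G.U.isoSpec.inv,
        show G.U.isoSpec.inv ≫ G.U.toSpecΓ = 𝟙 _ from G.U.isoSpec.inv_hom_id, Category.id_comp,
        ← Spec.map_comp, ← Spec.map_comp, hwq]
    have hrY : Set.range jY = (PrimeSpectrum.basicOpen h : Set (PrimeSpectrum G.invariants)) :=
      PrimeSpectrum.localization_away_comap_range C' h'
    have hrA : Set.range (Spec.map aA) =
        (PrimeSpectrum.basicOpen (h' : Γ(G.U, ⊤)) : Set (PrimeSpectrum Γ(G.U, ⊤))) :=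
      PrimeSpectrum.localization_away_comap_range A' (h' : Γ(G.U, ⊤))
    refine ⟨_, _, jY, jU, Spec.map qh, ⟨inferInstance, inferInstance, hw, ?_, ?_⟩, hrY ▸ hyh,
      hrY ▸ hsub⟩
    · ext u
      rw [Set.mem_preimage, hrY]
      have hu : u ∈ Set.range jU ↔ G.U.toSpecΓ u ∈ Set.range (Spec.map aA) := by
        constructor
        · rintro ⟨w, rfl⟩
          refine ⟨w, ?_⟩
          rw [← Scheme.Hom.comp_apply, Category.assoc,
            show G.U.isoSpec.inv ≫ G.U.toSpecΓ = 𝟙 _ from G.U.isoSpec.inv_hom_id, Category.comp_id]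
        · rintro ⟨w, hw'⟩
          refine ⟨w, ?_⟩
          rw [Scheme.Hom.comp_apply, hw', ← Scheme.Hom.comp_apply,
            show G.U.toSpecΓ ≫ G.U.isoSpec.inv = 𝟙 _ from G.U.isoSpec.hom_inv_id]
          rfl
      rw [hu, hrA, Grpd.GroupoidScheme.toQuot, Scheme.Hom.comp_apply]
      rfl
    · intro Z _ g hg
      obtain ⟨φ, hφ⟩ := Spec.map_surjective (g ≫ Z.isoSpec.hom)
      have hinv : ∀ z, locTgt σ τ h' (φ.hom z) = locSrc σ τ h' (φ.hom z) := by
        let aT : CommRingCat.of A' ⟶ CommRingCat.of B' := CommRingCat.ofHom (locTgt σ τ h')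
        let aS : CommRingCat.of A' ⟶ CommRingCat.of B' := CommRingCat.ofHom (locSrc σ τ h')
        have e := hg (Spec (CommRingCat.of B')) (Spec.map aT) (Spec.map aS) (Spec.map aB ≫ G.R.isoSpec.inv)
          (by
            rw [Category.assoc, ← Scheme.isoSpec_inv_naturality, ← Category.assoc, ← Category.assoc,
              ← Spec.map_comp, ← Spec.map_comp]
            congr 2
            exact CommRingCat.hom_ext (RingHom.ext fun a => (locTgt_algebraMap σ τ h' a).symm))
          (by
            rw [Category.assoc, ← Scheme.isoSpec_inv_naturality, ← Category.assoc, ← Category.assoc,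
              ← Spec.map_comp, ← Spec.map_comp]
            congr 2
            exact CommRingCat.hom_ext (RingHom.ext fun a => (locSrc_algebraMap σ τ h' a).symm))
        have e' := congrArg (· ≫ Z.isoSpec.hom) e
        simp only [Category.assoc, ← hφ, ← Spec.map_comp] at e'
        intro z
        exact congrArg (fun f : Γ(Z, ⊤) ⟶ CommRingCat.of B' => f.hom z) (Spec.map_injective e')
      let e := RingEquiv.ofBijective (locIncl σ τ h').rangeRestrict
        ⟨fun a b hab => locIncl_injective σ τ h' (congrArg Subtype.val hab),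
          (locIncl σ τ h').rangeRestrict_surjective⟩
      let ψ : Γ(Z, ⊤) ⟶ CommRingCat.of C' :=
        CommRingCat.ofHom (e.symm.toRingHom.comp
          (φ.hom.codRestrict _ fun z => mem_range_locIncl σ τ h' (hinv z)))
      have hψ : ψ ≫ qh = φ := CommRingCat.hom_ext (RingHom.ext fun z =>
        congrArg Subtype.val (e.apply_symm_apply _))
      refine ⟨Spec.map ψ ≫ Z.isoSpec.inv, ?_, fun g' hg' => ?_⟩
      · change Spec.map qh ≫ Spec.map ψ ≫ Z.isoSpec.inv = g
        rw [← Category.assoc, ← Spec.map_comp, hψ, hφ, Category.assoc, Iso.hom_inv_id, Category.comp_id]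
      · obtain ⟨ψ', hψ'⟩ := Spec.map_surjective (g' ≫ Z.isoSpec.hom)
        have : ψ' ≫ qh = ψ ≫ qh := by
          apply Spec.map_injective
          rw [hψ, Spec.map_comp, hψ', ← Category.assoc, hg', hφ]
        have e' : ψ' = ψ := CommRingCat.hom_ext (RingHom.ext fun z =>
          locIncl_injective σ τ h' (congrArg (fun f : Γ(Z, ⊤) ⟶ CommRingCat.of A' => f.hom z) this))
        rw [← e', hψ', Category.assoc, Iso.hom_inv_id, Category.comp_id]

end Groth.AffGpd
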