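import Mathlib
import Groth.Agent.GitQuot.AffGpd.DualSys

/-!
# The norm of a dual system: zero locus
-/

set_option autoImplicit false

universe u

open CategoryTheory Matrix

noncomputable section

namespace Groth.AffGpd.DualSys

variable {A B : CommRingCat.{u}} {f : A ⟶ B} {n : ℕ} (D : DualSys f n)

/-- Determinant of multiplication by `b`, extended by the identity on the complement. -/
def nrm (b : B) : A := (D.mat b + (1 - D.mat 1)).det

theorem nrm_mul (b c : B) : D.nrm b * D.nrm c = D.nrm (b * c) := by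
  rw [nrm, nrm, nrm, ← Matrix.det_mul]
  congr 1
  simp only [add_mul, mul_add, sub_mul, mul_sub, one_mul, mul_one, DualSys.mat_mul]
  abel

theorem dvd_map_nrm (b : B) : b ∣ f.hom (D.nrm b) := by
  let M : Matrix (Fin n) (Fin n) B := (D.mat b + (1 - D.mat 1)).map f.hom
  have key : ∀ c : B, D.x ᵥ* (D.mat c).map f.hom = c • D.x := by
    intro c
    funext l
    simp only [Matrix.vecMul, dotProduct, Matrix.map_apply, DualSys.mat_apply, Pi.smul_apply, smul_eq_mul]
    refine Eq.trans (Finset.sum_congr rfl fun k _ => mul_comm _ _) (D.sum_eq (c * D.x l))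
  have hv : D.x ᵥ* M = b • D.x := by
    rw [show M = (D.mat b).map f.hom + (1 - (D.mat 1).map f.hom) by
      change f.hom.mapMatrix (D.mat b + (1 - D.mat 1)) = _
      rw [map_add, map_sub, map_one]; rfl,
      Matrix.vecMul_add, Matrix.vecMul_sub, key, key, Matrix.vecMul_one, one_smul, sub_self, add_zero]
  have h := congrArg (fun w : Fin n → B => w ᵥ* M.adjugate) hv
  simp only [Matrix.vecMul_vecMul, Matrix.mul_adjugate, Matrix.vecMul_smul, Matrix.smul_vecMul,
    Matrix.vecMul_one] at h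
  have hdet : f.hom (D.nrm b) = M.det := by rw [nrm, RingHom.map_det]; rfl
  refine ⟨∑ k, f.hom (D.φ k 1) * (D.x ᵥ* M.adjugate) k, ?_⟩
  calc f.hom (D.nrm b) = M.det * ∑ k, f.hom (D.φ k 1) * D.x k := by rw [D.sum_eq, mul_one, hdet]
    _ = ∑ k, f.hom (D.φ k 1) * (M.det • D.x) k := by
        rw [Finset.mul_sum]
        exact Finset.sum_congr rfl fun k _ => by simp only [Pi.smul_apply, smul_eq_mul]; ring
    _ = b * ∑ k, f.hom (D.φ k 1) * (D.x ᵥ* M.adjugate) k := by
        rw [h, Finset.mul_sum]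
        exact Finset.sum_congr rfl fun k _ => by simp only [Pi.smul_apply, smul_eq_mul]; ring

/-- **Zero locus of the norm.** -/
theorem nrm_notMem_iff (u : Ideal A) [hu : u.IsPrime] (b : B) :
    D.nrm b ∉ u ↔ ∀ r : Ideal B, r.IsPrime → r.comap f.hom = u → b ∉ r := by
  refine ⟨fun h r _ hru hb => h (hru ▸ r.mem_of_dvd (D.dvd_map_nrm b) hb), fun h hN => ?_⟩
  obtain ⟨k, hk, g, hg⟩ : ∃ k, k ∉ u ∧ ∃ g, f.hom k - b * g ∈ u.map f.hom := by
    by_contra hne
    push Not at hne
    let S : Submonoid B := u.primeCompl.map f.hom.toMonoidHom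
    have hd : Disjoint ((Ideal.span {b} ⊔ u.map f.hom : Ideal B) : Set B) (S : Set B) := by
      rw [Set.disjoint_left]
      rintro x hx ⟨k, hk, rfl⟩
      obtain ⟨y, hy, z, hz, hyz⟩ := Submodule.mem_sup.1 hx
      obtain ⟨g, rfl⟩ := Ideal.mem_span_singleton'.1 hy
      refine hne k hk g ?_
      change f.hom.toMonoidHom k - b * g ∈ _
      rwa [← hyz, mul_comm g, add_sub_cancel_left]
    obtain ⟨r, hr, hle, hdis⟩ := Ideal.exists_le_prime_disjoint _ S hd
    refine h r hr (le_antisymm (fun k hk => ?_) (Ideal.map_le_iff_le_comap.1 (le_sup_right.trans hle)))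
      (hle (Ideal.mem_sup_left (Ideal.mem_span_singleton_self b)))
    by_contra hku
    exact Set.disjoint_left.1 hdis hk ⟨k, hku, rfl⟩
  let π := Ideal.Quotient.mk u
  have hπ : ∀ x ∈ u, π x = 0 := fun x hx => Ideal.Quotient.eq_zero_iff_mem.2 hx
  refine hk (hu.mem_of_pow_mem n ?_)
  have he : π (D.nrm (f.hom k)) = π (D.nrm (b * g)) := by
    rw [nrm, nrm, RingHom.map_det, RingHom.map_det, map_add, map_add]
    simp only [RingHom.mapMatrix_apply]
    rw [D.mat_map_congr u π hπ hg]
  have hm : D.mat (f.hom k) = k • D.mat 1 := by rw [← DualSys.mat_smul, mul_one]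
  have hee : D.mat 1 * D.mat 1 = D.mat 1 := by rw [DualSys.mat_mul, mul_one]
  have hpow : D.nrm (f.hom k) * (D.mat 1 + k • (1 - D.mat 1)).det = k ^ n := by
    rw [nrm, hm, ← Matrix.det_mul]
    have : (k • D.mat 1 + (1 - D.mat 1)) * (D.mat 1 + k • (1 - D.mat 1)) =
        k • (1 : Matrix (Fin n) (Fin n) A) := by
      simp only [add_mul, mul_add, sub_mul, mul_sub, Matrix.smul_mul, Matrix.mul_smul, hee, one_mul, mul_one]
      module
    rw [this, Matrix.det_smul, Matrix.det_one, mul_one, Fintype.card_fin]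
  rw [← Ideal.Quotient.eq_zero_iff_mem, ← hpow, map_mul, he, ← D.nrm_mul, map_mul, hπ _ hN, zero_mul,
    zero_mul]

end Groth.AffGpd.DualSys
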