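import Mathlib
import Groth.Agent.GitQuot.AffGpd.BaseChange
import Groth.Agent.GitQuot.AffGpd.MonoLocal

/-!
# Invariants and base change: universally a homeomorphism up to nilpotents
-/

set_option autoImplicit false

universe u

open CategoryTheory Matrix Polynomial TensorProduct

noncomputable section

namespace Groth.AffGpd

variable (G : AffGpd.{u})

theorem E_one_mul_self : G.E 1 * G.E 1 = G.E 1 := by
  rw [E, map_one, DualSys.mat_mul, mul_one]

theorem rankPoly_eq {R : Type u} [CommRing R] (f : G.A →+* R) (y : R) :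
    (1 + (y - 1) • (G.E 1).map f).det = G.rankPoly.eval₂ f y := by
  rw [rankPoly, Fintype.sum_unique, one_smul, ← Polynomial.coe_eval₂RingHom, RingHom.map_det]
  congr 1
  ext k l
  simp [Matrix.one_apply, apply_ite (Polynomial.eval₂ f y)]

theorem rankPoly_eval_mul {R : Type u} [CommRing R] (f : G.A →+* R) (y z : R) :
    G.rankPoly.eval₂ f y * G.rankPoly.eval₂ f z = G.rankPoly.eval₂ f (y * z) := by
  rw [← rankPoly_eq, ← rankPoly_eq, ← rankPoly_eq, ← Matrix.det_mul]
  congr 1
  have h : (G.E 1).map f * (G.E 1).map f = (G.E 1).map f := by rw [← Matrix.map_mul, E_one_mul_self]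
  simp only [add_mul, mul_add, one_mul, mul_one, Matrix.smul_mul, Matrix.mul_smul, h]
  module

theorem rankPoly_eval_one : G.rankPoly.eval 1 = 1 := by
  rw [← Polynomial.eval₂_id, ← rankPoly_eq]
  simp

theorem rankPoly_coeff_zero : G.rankPoly.coeff 0 = 0 := by
  rw [Polynomial.coeff_zero_eq_eval_zero, ← Polynomial.eval₂_id, ← rankPoly_eq]
  have h : G.vec ᵥ* (1 + (0 - 1 : G.A) • (G.E 1).map (RingHom.id G.A)) = (0 : G.A) • G.vec := by
    rw [Matrix.vecMul_add, Matrix.vecMul_one, Matrix.vecMul_smul,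
      show (G.E 1).map (RingHom.id G.A) = G.E 1 from Matrix.ext fun _ _ => rfl, vec_vecMul, one_smul]
    module
  simpa using G.dvd_det _ 0 h

/-- The coefficients are orthogonal idempotents. -/
theorem rankPoly_coeff_mul (i j : ℕ) :
    G.rankPoly.coeff i * G.rankPoly.coeff j = if i = j then G.rankPoly.coeff i else 0 := by
  -- evaluate at the two variables
  have h := G.rankPoly_eval_mul (R := (G.A[X])[X]) (Polynomial.C.comp Polynomial.C)
    (Polynomial.C Polynomial.X) Polynomial.X
  have e1 : G.rankPoly.eval₂ ((Polynomial.C : G.A[X] →+* (G.A[X])[X]).comp Polynomial.C) (Polynomial.C X) =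
      Polynomial.C G.rankPoly := by
    rw [← Polynomial.hom_eval₂, Polynomial.eval₂_C_X]
  have e2 : G.rankPoly.eval₂ ((Polynomial.C : G.A[X] →+* (G.A[X])[X]).comp Polynomial.C) X =
      G.rankPoly.map Polynomial.C := rfl
  rw [e1, e2] at h
  have h2 := congrArg (fun p : (G.A[X])[X] => (p.coeff j).coeff i) h
  simp only [Polynomial.coeff_C_mul, Polynomial.coeff_map, Polynomial.coeff_mul_C] at h2
  rw [h2, Polynomial.eval₂_eq_sum, Polynomial.sum_def, Polynomial.finsetSum_coeff, Polynomial.finsetSum_coeff]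
  simp only [RingHom.comp_apply, mul_pow, ← Polynomial.C_pow, ← mul_assoc, ← Polynomial.C_mul,
    Polynomial.coeff_C_mul_X_pow, apply_ite (fun q : G.A[X] => q.coeff i), Polynomial.coeff_zero]
  rw [Finset.sum_ite_eq]
  by_cases hj : j ∈ G.rankPoly.support
  · rw [if_pos hj]
    split_ifs with hij
    · subst hij; rfl
    · rfl
  · rw [if_neg hj]
    split_ifs with hij
    · subst hij; exact (Polynomial.notMem_support_iff.1 hj).symm
    · rfl

theorem rankPoly_natDegree_le : G.rankPoly.natDegree ≤ G.n := by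
  have h : G.rankPoly = ((X : G.A[X]) • (G.E 1).map C + (1 - G.E 1).map C).det := by
    rw [rankPoly, Fintype.sum_unique, one_smul, Matrix.map_sub _ (map_sub C), Matrix.map_one _ (map_zero C) (map_one C)]
    congr 1
    module
  rw [h]
  exact (Polynomial.natDegree_det_X_add_C_le _ _).trans (Fintype.card_fin _).le

variable (C' : Type u) [CommRing C'] [Algebra G.inv C'] [Algebra G.inv G.B]
  (hB : ∀ c : G.inv, algebraMap G.inv G.B c = G.σ.hom c)

local notation "A'" => G.A ⊗[G.inv] C'
local notation "ir" => (Algebra.TensorProduct.includeRight : C' →ₐ[G.inv] A')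

/-- `b ↦ φ k (b * x l)`, over the invariants. -/
def coordLin (k l : Fin G.n) : G.B →ₗ[G.inv] G.A where
  toFun b := G.D.φ k (b * G.D.x l)
  map_add' b b' := by rw [add_mul, map_add]
  map_smul' c b := by
    rw [Algebra.smul_def, RingHom.id_apply, hB, mul_assoc, G.D.φ_smul]
    rfl

include hB in
theorem exists_poly (f : A') {sf tf : G.B ⊗[G.inv] C'} {m : ℕ} (a : Fin m → G.A) (r : Fin m → C')
    (hf : f = ∑ i, a i ⊗ₜ r i) (hsf : sf = ∑ i, G.σ.hom (a i) ⊗ₜ r i)
    (htf : tf = ∑ i, G.τ.hom (a i) ⊗ₜ r i) (h : sf = tf) :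
    ∃ (N : ℕ) (P : C'[X]), 0 < N ∧ Polynomial.map (ir).toRingHom P = (X - Polynomial.C f) ^ N := by
  classical
  let il : G.A →+* A' := Algebra.TensorProduct.includeLeftRingHom
  let c : C'[X] →+* A'[X] := Polynomial.mapRingHom (ir).toRingHom
  let α : G.A →+* A'[X] := Polynomial.C.comp il
  have hw : α.comp G.inv.subtype = c.comp (Polynomial.C.comp (algebraMap G.inv C')) := by
    refine RingHom.ext fun x => ?_
    simp only [α, c, RingHom.comp_apply, Polynomial.coe_mapRingHom, Polynomial.map_C]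
    congr 1
    exact Algebra.TensorProduct.tmul_one_eq_one_tmul (R := G.inv) (A := G.A) (B := C') x
  have hentry : ∀ k l, ∑ i, G.E (a i) k l ⊗ₜ[G.inv] r i = f * (G.E 1 k l ⊗ₜ 1) := by
    intro k l
    have e := congrArg ((G.coordLin hB k l).rTensor C') h
    rw [hsf, htf, map_sum, map_sum] at e
    simp only [LinearMap.rTensor_tmul] at e
    rw [hf, Finset.sum_mul]
    refine Eq.trans ?_ (e.symm.trans ?_)
    · rfl
    · refine Finset.sum_congr rfl fun i _ => ?_
      rw [Algebra.TensorProduct.tmul_mul_tmul, mul_one]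
      congr 1
      change G.D.φ k (G.σ.hom (a i) * G.D.x l) = a i * G.D.φ k (G.τ.hom 1 * G.D.x l)
      rw [map_one, one_mul, G.D.φ_smul]
  obtain ⟨Q, hQ⟩ := G.det_mem_range (Polynomial.C.comp (algebraMap G.inv C')) c α hw
    (fun o : Option (Fin m) => o.elim 1 a) (fun o => o.elim (X - 1) fun i => -Polynomial.C (r i)) 1
  let z : A'[X] := X - Polynomial.C f
  have hQ' : c Q = G.rankPoly.eval₂ α z := by
    rw [hQ, ← rankPoly_eq]
    congr 1
    refine Matrix.ext fun k l => ?_
    simp only [map_one, one_smul, Fintype.sum_option, Option.elim_none, Option.elim_some, map_sub, map_neg,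
      Matrix.add_apply, Matrix.smul_apply, Matrix.map_apply, Matrix.sum_apply, smul_eq_mul, neg_mul,
      Finset.sum_neg_distrib]
    have e1 : ∑ i, c (Polynomial.C (r i)) * α (G.E (a i) k l) = Polynomial.C f * α (G.E 1 k l) := by
      simp only [α, c, RingHom.comp_apply, Polynomial.coe_mapRingHom, Polynomial.map_C, ← Polynomial.C_mul,
        ← map_sum]
      congr 1
      rw [show il (G.E 1 k l) = G.E 1 k l ⊗ₜ 1 from rfl, ← hentry]
      exact Finset.sum_congr rfl fun i _ => by simp [il]
    rw [Finset.sum_congr rfl fun x _ => (neg_mul (c (Polynomial.C (r x))) (α (G.E (a x) k l))),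
      Finset.sum_neg_distrib, e1]
    simp only [z, c, Polynomial.coe_mapRingHom, Polynomial.map_X]
    ring
  choose e he using fun j => (⟨⟨_, G.rankPoly_coeff_mem_inv j⟩, rfl⟩ :
    ∃ e : G.inv, (e : G.A) = G.rankPoly.coeff j)
  let M := G.n.factorial
  refine ⟨M, ∑ j ∈ Finset.Icc 1 G.n, Polynomial.C (algebraMap G.inv C' (e j)) * Q ^ (M / j), G.n.factorial_pos, ?_⟩
  change c (∑ j ∈ Finset.Icc 1 G.n, Polynomial.C (algebraMap G.inv C' (e j)) * Q ^ (M / j)) = z ^ M
  have hsupp : ∀ j, G.rankPoly.coeff j ≠ 0 → j ∈ Finset.Icc 1 G.n := fun j hj =>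
    Finset.mem_Icc.2 ⟨Nat.one_le_iff_ne_zero.2 fun h0 => hj (h0 ▸ G.rankPoly_coeff_zero),
      (Polynomial.le_natDegree_of_ne_zero hj).trans G.rankPoly_natDegree_le⟩
  have hec : ∀ j, c (Polynomial.C (algebraMap G.inv C' (e j))) = α (G.rankPoly.coeff j) := fun j => by
    rw [← he]; exact (RingHom.congr_fun hw (e j)).symm
  have key : ∀ j k, α (G.rankPoly.coeff j) * (G.rankPoly.eval₂ α z) ^ k =
      α (G.rankPoly.coeff j) * z ^ (j * k) := by
    intro j k
    induction k with
    | zero => simp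
    | succ k ih =>
      rw [pow_succ, ← mul_assoc, ih, mul_right_comm, Nat.mul_succ, pow_add, Polynomial.eval₂_eq_sum,
        Polynomial.sum_def, Finset.mul_sum]
      have e2 : ∀ i, α (G.rankPoly.coeff j) * (α (G.rankPoly.coeff i) * z ^ i) =
          if i = j then α (G.rankPoly.coeff j) * z ^ j else 0 := by
        intro i
        rw [← mul_assoc, ← map_mul, rankPoly_coeff_mul]
        by_cases hij : i = j
        · subst hij; rw [if_pos rfl, if_pos rfl]
        · rw [if_neg (Ne.symm hij), if_neg hij, map_zero, zero_mul]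
      simp only [e2, Finset.sum_ite_eq']
      by_cases hj : j ∈ G.rankPoly.support
      · rw [if_pos hj]; ring
      · rw [if_neg hj, Polynomial.notMem_support_iff.1 hj, map_zero]; simp
  rw [map_sum, Finset.sum_congr rfl fun j _ => show c _ = α (G.rankPoly.coeff j) * z ^ (j * (M / j)) by
    rw [map_mul, map_pow, hec, hQ', key]]
  have hN : ∀ j ∈ Finset.Icc 1 G.n, α (G.rankPoly.coeff j) * z ^ (j * (M / j)) =
      α (G.rankPoly.coeff j) * z ^ M := fun j hj => by
    rw [Nat.mul_div_cancel' (Nat.dvd_factorial (Finset.mem_Icc.1 hj).1 (Finset.mem_Icc.1 hj).2)]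
  rw [Finset.sum_congr rfl hN, ← Finset.sum_mul, ← map_sum]
  have : ∑ j ∈ Finset.Icc 1 G.n, G.rankPoly.coeff j = 1 := by
    have h1 := G.rankPoly_eval_one
    simp only [Polynomial.eval_eq_sum, one_pow, mul_one, Polynomial.sum_def] at h1
    refine Eq.trans (Finset.sum_subset (fun j hj => hsupp j (Polynomial.mem_support_iff.1 hj)) ?_).symm h1
    exact fun j _ hj => Polynomial.notMem_support_iff.1 hj
  rw [this, map_one, one_mul]

omit [Algebra G.inv G.B] in
theorem isNilpotent_of_tmul_eq_zero {c : C'} (hc : ir c = 0) : IsNilpotent c := by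
  refine nilpotent_iff_mem_prime.2 fun p hp => ?_
  let k := AlgebraicClosure (FractionRing (C' ⧸ p))
  let μ : C' →+* k := (algebraMap (C' ⧸ p) k).comp (Ideal.Quotient.mk p)
  obtain ⟨x, hx⟩ := G.exists_lift_field (μ.comp (algebraMap G.inv C'))
  letI : Algebra G.inv k := (μ.comp (algebraMap G.inv C')).toAlgebra
  let L : A' →ₐ[G.inv] k := Algebra.TensorProduct.lift
    { x with commutes' := fun y => RingHom.congr_fun hx y } { μ with commutes' := fun y => rfl }
    (fun _ _ => .all _ _)
  have h0 : μ c = 0 := by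
    have := congrArg L hc
    simpa [L] using this
  have hinj : Function.Injective (algebraMap (C' ⧸ p) k) := by
    rw [IsScalarTower.algebraMap_eq (C' ⧸ p) (FractionRing (C' ⧸ p)) k]
    exact (algebraMap (FractionRing (C' ⧸ p)) k).injective.comp (IsFractionRing.injective (C' ⧸ p) (FractionRing (C' ⧸ p)))
  rw [RingHom.comp_apply, map_eq_zero_iff _ hinj, Ideal.Quotient.eq_zero_iff_mem] at h0
  exact h0

include hB in
theorem flat_bijective [Module.Flat G.inv C'] :
    Function.Injective ir ∧ ∀ (f : A') (sf tf : G.B ⊗[G.inv] C') (σl τl : G.A →ₗ[G.inv] G.B),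
      (∀ a, σl a = G.σ.hom a) → (∀ a, τl a = G.τ.hom a) → sf = σl.rTensor C' f → tf = τl.rTensor C' f →
        sf = tf → f ∈ Set.range ir := by
  let ι := Algebra.linearMap G.inv G.A
  have hι : ∀ c, ι.rTensor C' ((1 : G.inv) ⊗ₜ c) = ir c := fun c => by
    rw [LinearMap.rTensor_tmul, show ι 1 = 1 from rfl]; rfl
  refine ⟨fun c c' hcc => ?_, fun f sf tf σl τl hσ hτ hs ht h => ?_⟩
  · rw [← hι, ← hι] at hcc
    have := Module.Flat.rTensor_preserves_injective_linearMap ι Subtype.val_injective hcc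
    simpa using congrArg (TensorProduct.lid G.inv C') this
  · have hex : Function.Exact ι (σl - τl) := by
      intro a
      rw [LinearMap.sub_apply, sub_eq_zero, hσ, hτ, ← G.mem_inv]
      exact ⟨fun ha => ⟨⟨a, ha⟩, rfl⟩, by rintro ⟨c, rfl⟩; exact c.2⟩
    obtain ⟨w, hw⟩ := (Module.Flat.rTensor_exact C' hex f).1
      (by rw [LinearMap.rTensor_sub, LinearMap.sub_apply, ← hs, ← ht, h, sub_self])
    obtain ⟨c, rfl⟩ : ∃ c : C', (1 : G.inv) ⊗ₜ c = w :=
      ⟨TensorProduct.lid G.inv C' w, by rw [← TensorProduct.lid_symm_apply, LinearEquiv.symm_apply_apply]⟩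
    exact ⟨c, (hι c).symm.trans hw⟩

end Groth.AffGpd
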